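import Mathlib
import Cfsg.Agent.S0738
import Cfsg.Agent.Lib.Zassenhaus.Coherent
import Cfsg.Agent.Lib.SuzukiTwo.Second

/-!
Simple Zassenhaus groups in which the kernel of a point stabiliser is a non-abelian 2-group: the
kernel is a Suzuki 2-group and the two-point stabiliser has order one less than that of its centre.
-/

set_option autoImplicit false

namespace Cfsg.Agent.Lib.Zassenhaus.TwoKernel

open MulAction Cfsg Cfsg.Agent.Lib

variable {G Ω : Type*} [Group G] [Fintype G] [MulAction G Ω] [Fintype Ω]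

/-- The standing data. -/
structure Data (U : Subgroup G) (a b : Ω) (h e q : ℕ) : Prop where
  setup : Coherent.Setup U a b h e
  two : IsPGroup 2 U
  inv : SimpleOdd.SwapInverts G Ω
  cyclic : IsCyclic ↥(stabilizer G a ⊓ stabilizer G b)
  three_le : 3 ≤ e
  q_eq : q = e + 1
  q_pow : ∃ n : ℕ, q = 2 ^ n
  suzuki : Cfsg.IsSuzukiTwoGroup U
  cardZ : Nat.card (Subgroup.center U) = q
  cardU : h = q ^ 2 ∨ h = q ^ 3
  trans : ∀ x ∈ U, ∀ y ∈ U, orderOf x = 2 → orderOf y = 2 →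
    ∃ ε ∈ stabilizer G a ⊓ stabilizer G b, ε * x * ε⁻¹ = y
  central : ∀ x ∈ U, x * x = 1 → ∀ y ∈ U, x * y = y * x
  sq : ∀ x ∈ U, x * x * (x * x) = 1
  comm : ∀ x ∈ U, ∀ y ∈ U, x * y * x⁻¹ * y⁻¹ * (x * y * x⁻¹ * y⁻¹) = 1

variable {U : Subgroup G} {a b : Ω} {h e q : ℕ}

/-- Elements of two-power order fixing the point lie in the kernel. -/
theorem mem_of_two_pow (s : Coherent.Setup U a b h e) {g : G} (hga : g • a = a) {k : ℕ}
    (hg : g ^ 2 ^ k = 1) : g ∈ U := by
  classical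
  haveI : (U.subgroupOf (Subgroup.normalizer (U : Set G))).Normal := Subgroup.normal_in_normalizer
  let g' : ↥(Subgroup.normalizer (U : Set G)) := ⟨g, s.normalizer_eq.ge (mem_stabilizer_iff.2 hga)⟩
  have h1 : (g' : ↥(Subgroup.normalizer (U : Set G)) ⧸ U.subgroupOf (Subgroup.normalizer (U : Set G)))
      ^ 2 ^ k = 1 := by
    rw [← QuotientGroup.mk_pow, show g' ^ 2 ^ k = 1 from Subtype.ext (by simpa [g'] using hg),
      QuotientGroup.mk_one]
  have h2 : (g' : ↥(Subgroup.normalizer (U : Set G)) ⧸ U.subgroupOf (Subgroup.normalizer (U : Set G)))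
      ^ e = 1 := by
    rw [← s.index_kerIn]
    exact pow_card_eq_one'
  have hcop : Nat.Coprime (2 ^ k) e :=
    (Nat.coprime_two_left.2 s.odd).pow_left k
  have h3 := pow_gcd_eq_one.2 ⟨h1, h2⟩
  rw [Nat.coprime_iff_gcd_eq_one.1 hcop, pow_one, QuotientGroup.eq_one_iff] at h3
  exact Subgroup.mem_subgroupOf.1 h3

namespace Data

theorem mem_of_involution (d : Data U a b h e q) {x : G} (hx : orderOf x = 2) (hxa : x • a = a) :
    x ∈ U :=
  mem_of_two_pow d.setup hxa (k := 1) (by rw [pow_one, ← hx, pow_orderOf_eq_one])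

theorem even_h (d : Data U a b h e q) : Even h := by
  obtain ⟨n, hn⟩ := d.q_pow
  have hq := d.q_eq
  have := d.three_le
  have h2 : Even q := by
    rw [hn, Nat.even_pow]
    exact ⟨even_two, fun h0 => by rw [h0] at hn; omega⟩
  rcases d.cardU with h1 | h1 <;> rw [h1] <;>
    exact Nat.even_pow.2 ⟨h2, by omega⟩

theorem hodd (d : Data U a b h e q) : Odd (Nat.card ↥(stabilizer G a ⊓ stabilizer G b)) :=
  d.setup.pair.symm ▸ d.setup.odd

theorem not_even_card (d : Data U a b h e q) : ¬ Even (Fintype.card Ω) := by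
  rw [d.setup.card, Nat.even_add_one, not_not]
  exact d.even_h

/-- An involution fixes exactly one point. -/
theorem existsUnique_fix (d : Data U a b h e q) {x : G} (hx : orderOf x = 2) :
    ∃! c : Ω, x • c = c := by
  obtain ⟨c, hc⟩ := (ClassCount.exists_fix_iff d.setup.zass d.setup.ne d.hodd hx).2 d.not_even_card
  exact ⟨c, hc, fun y hy => ClassCount.fix_unique d.setup.zass d.setup.ne d.hodd hx hy hc⟩

/-- Conjugates of the involutions of the kernel. -/
theorem exists_conj_mem (d : Data U a b h e q) {x : G} (hx : orderOf x = 2) :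
    ∃ m : G, m * x * m⁻¹ ∈ U := by
  haveI := isPretransitive_of_is_two_pretransitive (h2 := d.setup.zass.2.1)
  obtain ⟨c, hc, -⟩ := d.existsUnique_fix hx
  obtain ⟨m, hm⟩ := exists_smul_eq G c a
  refine ⟨m, d.mem_of_involution ((MulEquiv.orderOf_eq (MulAut.conj m) x).trans hx) ?_⟩
  rw [mul_smul, mul_smul, inv_smul_eq_iff.2 hm.symm, hc, hm]

/-- For the smaller order squaring is injective on the central quotient. -/
theorem sq_inj (d : Data U a b h e q) (hh : h = q ^ 2) {x y : G} (hx : x ∈ U) (hy : y ∈ U)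
    (hxy : x * x = y * y) : x⁻¹ * y * (x⁻¹ * y) = 1 := by
  classical
  have s := d.setup
  set Z := Subgroup.center U with hZ
  have hZiff : ∀ u : U, u ∈ Z ↔ (u : G) * u = 1 := by
    refine fun u => ⟨fun hu => ?_, fun hu => Subgroup.mem_center_iff.2 fun v => Subtype.ext ?_⟩
    · exact congrArg Subtype.val (SuzukiTwo.center_elementary d.suzuki u hu)
    · exact (d.central u u.2 hu v v.2).symm
  obtain ⟨u0, hu0, v0, hv0, hna⟩ : ∃ u ∈ U, ∃ v ∈ U, u * v ≠ v * u := by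
    obtain ⟨u, v, huv⟩ := d.suzuki.2.2.1
    exact ⟨u, u.2, v, v.2, fun e' => huv (Subtype.ext e')⟩
  have hu01 : u0 * u0 ≠ 1 := fun e' => hna (d.central u0 hu0 e' v0 hv0)
  have hroot : ∀ z : Z, ∃ w : U, (w : G) * w = ((z : U) : G) := by
    intro z
    by_cases hz1 : ((z : U) : G) = 1
    · exact ⟨1, by rw [hz1]; simp⟩
    have hz2 : orderOf ((z : U) : G) = 2 :=
      orderOf_eq_prime (by rw [pow_two]; exact (hZiff z).1 z.2) hz1
    have hw2 : orderOf (u0 * u0) = 2 := orderOf_eq_prime (by rw [pow_two]; exact d.sq u0 hu0) hu01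
    obtain ⟨ε, hε, hεz⟩ := d.trans _ (mul_mem hu0 hu0) _ (z : U).2 hw2 hz2
    have hmem : ε * u0 * ε⁻¹ ∈ U := (Subgroup.mem_normalizer_iff.1
      (s.normalizer_eq.ge (Subgroup.mem_inf.1 hε).1) u0).1 hu0
    refine ⟨⟨_, hmem⟩, ?_⟩
    rw [← hεz]
    simp only
    group
  choose w hw using hroot
  have hconst : ∀ u v : U, u⁻¹ * v ∈ Z → (u : G) * u = (v : G) * v := by
    intro u v huv
    have h1 := (hZiff _).1 huv
    simp only [Subgroup.coe_mul, Subgroup.coe_inv] at h1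
    have h2 := d.central _ (mul_mem (inv_mem u.2) v.2) h1 u u.2
    calc (u : G) * u = u * u * ((u : G)⁻¹ * v * ((u : G)⁻¹ * v)) := by rw [h1, mul_one]
      _ = u * (u * ((u : G)⁻¹ * v)) * ((u : G)⁻¹ * v) := by group
      _ = u * ((u : G)⁻¹ * v * u) * ((u : G)⁻¹ * v) := by rw [h2]
      _ = v * v := by group
  let f : Z → U ⧸ Z := fun z => QuotientGroup.mk (w z)
  have hf : Function.Bijective f := by
    refine (Nat.bijective_iff_injective_and_card f).2 ⟨fun z z' hzz => ?_, ?_⟩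
    · have h1 := hconst _ _ (QuotientGroup.eq.1 hzz)
      rw [hw, hw] at h1
      exact Subtype.ext (Subtype.ext h1)
    · have h1 := Subgroup.card_eq_card_quotient_mul_card_subgroup Z
      rw [s.cardH_eq, d.cardZ, hh, pow_two] at h1
      have := d.three_le
      have := d.q_eq
      rw [d.cardZ]
      exact Nat.eq_of_mul_eq_mul_right (by omega) h1
  obtain ⟨z1, hz1⟩ := hf.2 (QuotientGroup.mk ⟨x, hx⟩)
  obtain ⟨z2, hz2⟩ := hf.2 (QuotientGroup.mk ⟨y, hy⟩)
  have e1 := hconst _ _ (QuotientGroup.eq.1 hz1)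
  have e2 := hconst _ _ (QuotientGroup.eq.1 hz2)
  rw [hw] at e1 e2
  have hz12 : z1 = z2 := Subtype.ext (Subtype.ext (e1.trans (hxy.trans e2.symm)))
  have h3 : (⟨x, hx⟩ : U)⁻¹ * ⟨y, hy⟩ ∈ Z :=
    QuotientGroup.eq.1 (hz1.symm.trans (hz12 ▸ hz2))
  exact (hZiff _).1 h3

end Data

/-- The hypotheses give the standing data. -/
theorem exists_data [IsSimpleGroup G] (hZ : Cfsg.IsZassenhausGroup G Ω) (hab : a ≠ b)
    (hUle : U ≤ stabilizer G a) (hUn : ∀ g ∈ stabilizer G a, ∀ u ∈ U, g * u * g⁻¹ ∈ U)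
    (hreg : ∀ c d : Ω, c ≠ a → d ≠ a → ∃! u : U, (u : G) • c = d)
    (hU2 : IsPGroup 2 U) (hUna : ∃ u ∈ U, ∃ v ∈ U, u * v ≠ v * u) :
    ∃ h e q : ℕ, Data U a b h e q := by
  classical
  haveI : Fact (Nat.Prime 2) := ⟨Nat.prime_two⟩
  haveI := hZ.1
  obtain ⟨u0, hu0, v0, hv0, huv⟩ := hUna
  have hfix : ∀ u ∈ U, u ≠ 1 → ∀ c : Ω, u • c = c → c = a := by
    intro u hu hu1 c hc
    by_contra hca
    exact hu1 (congrArg Subtype.val ((hreg c c hca hca).unique (y₁ := ⟨u, hu⟩) (y₂ := 1) hc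
      (one_smul G c)))
  have hne : ∀ u : U, (u : G) • b ≠ a := fun u e' =>
    hab.symm (smul_left_cancel (u : G) (e'.trans (mem_stabilizer_iff.1 (hUle u.2)).symm))
  have hcard : Nat.card U + 1 = Fintype.card Ω := by
    have ee : U ≃ {x : Ω // x ≠ a} := Equiv.ofBijective (fun u => ⟨(u : G) • b, hne u⟩)
      ⟨fun u v e' => (hreg b _ hab.symm (hne u)).unique rfl (congrArg Subtype.val e').symm,
        fun x => ⟨(hreg b x hab.symm x.2).exists.choose,
          Subtype.ext (hreg b x hab.symm x.2).exists.choose_spec⟩⟩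
    rw [Nat.card_congr ee, Nat.card_eq_fintype_card, Fintype.card_subtype_compl,
      Fintype.card_subtype_eq]
    have : 0 < Fintype.card Ω := Fintype.card_pos_iff.2 ⟨a⟩
    omega
  obtain ⟨h, hh⟩ : ∃ h, Nat.card U = h := ⟨_, rfl⟩
  obtain ⟨e, he⟩ : ∃ e, Nat.card ↥(stabilizer G a ⊓ stabilizer G b) = e := ⟨_, rfl⟩
  have hU1 : U ≠ ⊥ := fun e' => by
    rw [e', Subgroup.mem_bot] at hu0 hv0
    exact huv (by rw [hu0, hv0])
  obtain ⟨m, hm⟩ := IsPGroup.iff_card.1 hU2
  have hm0 : m ≠ 0 := fun h0 => hU1 (Subgroup.card_eq_one.1 (by rw [hm, h0, pow_zero]))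
  have hheven : Even h := by
    rw [← hh, hm]
    exact Nat.even_pow.2 ⟨even_two, hm0⟩
  have hodd : Odd e := by
    by_contra hev
    rw [Nat.not_odd_iff_even] at hev
    obtain ⟨⟨z, hz⟩, hzo⟩ := exists_prime_orderOf_dvd_card'
      (G := ↥(stabilizer G a ⊓ stabilizer G b)) 2 (he.symm ▸ even_iff_two_dvd.1 hev)
    rw [Subgroup.orderOf_mk] at hzo
    have hfp : ∀ c : Ω, z • c = c → c = a ∨ c = b := by
      intro c hc
      by_contra hno
      push Not at hno
      have h1 := hZ.2.2.1 z a b c hab hno.2.symm hno.1.symm hz.1 hz.2 hc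
      rw [h1, orderOf_one] at hzo
      omega
    have hzp : IsPGroup 2 (Subgroup.zpowers z) :=
      IsPGroup.of_card (n := 1) (by rw [Nat.card_zpowers, hzo, pow_one])
    have hmod := hzp.card_modEq_card_fixedPoints Ω
    have hset : fixedPoints (Subgroup.zpowers z) Ω = ({a, b} : Set Ω) := by
      ext c
      refine ⟨fun hc => hfp c (hc ⟨z, Subgroup.mem_zpowers z⟩), fun hc g => ?_⟩
      obtain ⟨_, i, rfl⟩ := g
      rcases hc with rfl | rfl
      · exact mem_stabilizer_iff.1 ((stabilizer G c).zpow_mem hz.1 i)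
      · exact mem_stabilizer_iff.1 ((stabilizer G c).zpow_mem hz.2 i)
    have h2 : Nat.card (fixedPoints (Subgroup.zpowers z) Ω) = 2 := by
      rw [hset, Nat.card_coe_set_eq, Set.ncard_pair hab]
    rw [h2, Nat.card_eq_fintype_card, ← hcard, hh] at hmod
    have hmod' : (h + 1) % 2 = 2 % 2 := hmod
    rw [Nat.even_iff] at hheven
    omega
  have hsmall : 2 * e < h - 1 := by
    by_contra hle
    have h1 := Cfsg.Agent.S0738.result hZ hab (by rw [← hcard, hh, he]; omega) U hUle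
      ⟨fun u hu g => hUn g g.2 u hu⟩ (fun y z hy hz => hreg y z hy hz)
    exact huv (congrArg Subtype.val (h1.1.is_comm.comm (⟨u0, hu0⟩ : U) ⟨v0, hv0⟩))
  have s : Coherent.Setup U a b h e := ⟨hZ, hab, by omega, he, hodd, hsmall, hUle, hcard, hfix⟩
  obtain ⟨hcyc, hinv⟩ := SimpleOdd.simple_inverts hZ hab (he.symm ▸ hodd)
  have he1 : e ≠ 1 := fun e' => SimpleOdd.pair_ne_bot hZ hab (Subgroup.card_eq_one.1 (he.trans e'))
  have he3 : 3 ≤ e := by obtain ⟨j, hj⟩ := hodd; omega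
  -- the involutions of the kernel
  let E := stabilizer G a ⊓ stabilizer G b
  let J := {z : G // z ∈ U ∧ orderOf z = 2}
  have hJmem : ∀ (ε : E) (z : G), z ∈ U → (ε : G) * z * (ε : G)⁻¹ ∈ U :=
    fun ε z hz => hUn _ (Subgroup.mem_inf.1 ε.2).1 z hz
  let act : J → E → J := fun z ε => ⟨ε * z.1 * (ε : G)⁻¹, hJmem ε _ z.2.1,
    (MulEquiv.orderOf_eq (MulAut.conj (ε : G)) z.1).trans z.2.2⟩
  have hinj : ∀ z : J, Function.Injective (act z) := by
    intro z ε ε' e'
    have e1 : (ε : G) * z.1 * (ε : G)⁻¹ = ε' * z.1 * (ε' : G)⁻¹ := congrArg Subtype.val e'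
    have hc : ((ε' : G)⁻¹ * ε) * z.1 = z.1 * ((ε' : G)⁻¹ * ε) := by
      calc ((ε' : G)⁻¹ * ε) * z.1 = (ε' : G)⁻¹ * ((ε : G) * z.1 * (ε : G)⁻¹) * ε := by group
        _ = z.1 * ((ε' : G)⁻¹ * ε) := by rw [e1]; group
    have hmem : (ε' : G)⁻¹ * ε ∈ U := s.centralizer_le _ z.2.1
      (fun h1 => by have := z.2.2; rw [h1, orderOf_one] at this; omega)
      (Subgroup.mem_centralizer_singleton_iff.2 hc)
    by_contra hne'
    refine hab.symm (hfix _ hmem (fun h1 => hne' (Subtype.ext (inv_mul_eq_one.1 h1).symm)) b ?_)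
    exact (E.mul_mem (E.inv_mem ε'.2) ε.2).2
  have hJle : Nat.card J ≤ e := by
    refine le_trans ?_ (he ▸ ClassCount.card_fixing_le hZ hinv hab (he.symm ▸ hodd) a)
    exact Nat.card_le_card_of_injective
      (fun z : J => (⟨z.1, z.2.2, mem_stabilizer_iff.1 (hUle z.2.1)⟩ :
        {x : G // orderOf x = 2 ∧ x • a = a}))
      fun z z' e' => Subtype.ext (Subtype.mk.inj e')
  obtain ⟨⟨z0, hz0⟩, hz0o⟩ := exists_prime_orderOf_dvd_card' (G := U) 2 (hm ▸ dvd_pow_self 2 hm0)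
  rw [Subgroup.orderOf_mk] at hz0o
  have hcardJ : Nat.card J = e :=
    le_antisymm hJle (he ▸ Nat.card_le_card_of_injective _ (hinj ⟨z0, hz0, hz0o⟩))
  have hbij : ∀ z : J, Function.Bijective (act z) := fun z =>
    (Nat.bijective_iff_injective_and_card _).2 ⟨hinj z, he.trans hcardJ.symm⟩
  -- the Suzuki 2-group
  have hJsq : ∀ z : J, z.1 * z.1 = 1 := fun z => by
    have h1 := pow_orderOf_eq_one z.1
    rwa [z.2.2, pow_two] at h1
  have hEnorm : E ≤ Subgroup.normalizer (U : Set G) :=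
    inf_le_left.trans s.normalizer_eq.ge
  let ψ : E →* MulAut U :=
    (Subgroup.normalizerMonoidHom U).comp (Subgroup.inclusion hEnorm)
  have hψ : ∀ (ε : E) (u : U), ((ψ ε u : U) : G) = ε * u * (ε : G)⁻¹ := fun _ _ => rfl
  have hJU : ∀ x : U, x ≠ 1 → x * x = 1 → orderOf (x : G) = 2 := fun x hx1 hx =>
    orderOf_eq_prime (by rw [pow_two]; exact congrArg Subtype.val hx)
      fun h1 => hx1 (Subtype.ext h1)
  have hsuz : Cfsg.IsSuzukiTwoGroup U := by
    refine ⟨inferInstance, hU2, ⟨⟨u0, hu0⟩, ⟨v0, hv0⟩, fun e' => huv (congrArg Subtype.val e')⟩,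
      ?_, ψ.range, ?_, ?_⟩
    · obtain ⟨z, hz⟩ := Fintype.exists_ne_of_one_lt_card
        (by rw [← Nat.card_eq_fintype_card]; omega : 1 < Fintype.card J) ⟨z0, hz0, hz0o⟩
      have hsq : ∀ z : J, (⟨z.1, z.2.1⟩ : U) * ⟨z.1, z.2.1⟩ = 1 := fun z => Subtype.ext (by
        show z.1 * z.1 = 1
        exact hJsq z)
      have hne1 : ∀ z : J, (⟨z.1, z.2.1⟩ : U) ≠ 1 := fun z e' => by
        have h1 : z.1 = 1 := congrArg Subtype.val e'
        have := z.2.2
        rw [h1, orderOf_one] at this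
        omega
      exact ⟨⟨z0, hz0⟩, ⟨z.1, z.2.1⟩, fun e' => hz (Subtype.ext (congrArg Subtype.val e').symm),
        hne1 ⟨z0, hz0, hz0o⟩, hsq ⟨z0, hz0, hz0o⟩, hne1 z, hsq z⟩
    · exact isCyclic_of_surjective _ ψ.rangeRestrict_surjective
    · intro x y hx1 hx hy1 hy
      obtain ⟨ε, hε⟩ := (hbij ⟨x, x.2, hJU x hx1 hx⟩).2 ⟨y, y.2, hJU y hy1 hy⟩
      have hε' : (ε : G) * x * (ε : G)⁻¹ = y := congrArg Subtype.val hε
      refine ⟨⟨ψ ε, ε, rfl⟩, Subtype.ext ((hψ ε x).trans hε'), ?_⟩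
      rintro ⟨_, ε', rfl⟩ hk
      have hk' : (ε' : G) * x * (ε' : G)⁻¹ = y := congrArg Subtype.val hk
      exact Subtype.ext (congrArg ψ ((hbij ⟨x, x.2, hJU x hx1 hx⟩).1
        (Subtype.ext (hk'.trans hε'.symm))))
  obtain ⟨k, hk⟩ := SuzukiTwo.exists_regGen hsuz
  have hcen : ∀ x : U, x * x = 1 ↔ x ∈ Subgroup.center U :=
    fun x => ⟨SuzukiTwo.involution_central hk hU2, SuzukiTwo.center_elementary hsuz x⟩
  have hZcard : Nat.card (Subgroup.center U) = e + 1 := by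
    let f : Option J → Subgroup.center U := fun o => o.elim 1 fun z =>
      ⟨⟨z.1, z.2.1⟩, (hcen _).1 (Subtype.ext (by
        show z.1 * z.1 = 1
        exact hJsq z))⟩
    have hf1 : ∀ z : J, f (some z) ≠ 1 := fun z e' => by
      have h1 : z.1 = 1 :=
        congrArg (fun w : Subgroup.center U => ((w : U) : G)) e'
      have := z.2.2
      rw [h1, orderOf_one] at this
      omega
    have hf : Function.Bijective f := by
      refine ⟨?_, fun w => ?_⟩
      · rintro (_ | z) (_ | z') e'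
        · rfl
        · exact absurd e'.symm (hf1 z')
        · exact absurd e' (hf1 z)
        · exact congrArg some (Subtype.ext
            (congrArg (fun w : Subgroup.center U => ((w : U) : G)) e'))
      · by_cases hw : w = 1
        · exact ⟨none, hw.symm⟩
        · exact ⟨some ⟨((w : U) : G), (w : U).2, hJU _ (fun h1 => hw (Subtype.ext h1))
            ((hcen _).2 w.2)⟩, rfl⟩
    rw [← Nat.card_eq_of_bijective f hf, Finite.card_option, hcardJ]
  obtain ⟨n, hn⟩ := IsPGroup.iff_card.1 (hU2.to_subgroup (Subgroup.center U))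
  obtain ⟨hsqc, hcmc⟩ := SuzukiTwo.squares_central hsuz hk
  refine ⟨h, e, e + 1, s, hU2, hinv, hcyc, he3, rfl, ⟨n, hZcard.symm.trans hn⟩, hsuz, hZcard, ?_,
    fun x hx y hy hxo hyo => ?_, fun x hx hx2 y hy => ?_, fun x hx => ?_, fun x hx y hy => ?_⟩
  · rw [← hZcard, ← hh]
    exact (SuzukiTwo.card_exponent hsuz hk).1
  · obtain ⟨ε, hε⟩ := (hbij ⟨x, hx, hxo⟩).2 ⟨y, hy, hyo⟩
    exact ⟨ε, ε.2, congrArg Subtype.val hε⟩
  · exact (congrArg Subtype.val (Subgroup.mem_center_iff.1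
      ((hcen ⟨x, hx⟩).1 (Subtype.ext hx2)) ⟨y, hy⟩)).symm
  · exact congrArg Subtype.val ((hcen _).2 (hsqc ⟨x, hx⟩))
  · have h1 := congrArg Subtype.val ((hcen _).2 (hcmc ⟨x, hx⟩ ⟨y, hy⟩))
    simpa [commutatorElement_def] using h1

end Cfsg.Agent.Lib.Zassenhaus.TwoKernel
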