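import Mathlib
import Cfsg.Agent.Lib.Zassenhaus.TwoKernel.Basic

/-!
Fixed-point-free elements inverted by an involution: their centralisers are abelian of odd order,
inverted, and their normalisers are small.
-/

set_option autoImplicit false

namespace Cfsg.Agent.Lib.Zassenhaus.TwoKernel

open MulAction Cfsg Cfsg.Agent.Lib

variable {G Ω : Type*} [Group G] [Fintype G] [MulAction G Ω] [Fintype Ω]
  {U : Subgroup G} {a b : Ω} {h e q : ℕ}

/-- Fixed-point-free and inverted by an involution. -/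
def IsRealFree (Ω : Type*) {G : Type*} [Group G] [MulAction G Ω] (g : G) : Prop :=
  (∀ c : Ω, g • c ≠ c) ∧ ∃ t : G, orderOf t = 2 ∧ t * g * t⁻¹ = g⁻¹

omit [Fintype G] in
theorem centralizer_conj (m g : G) : Subgroup.centralizer ({m * g * m⁻¹} : Set G) =
    (Subgroup.centralizer ({g} : Set G)).map (MulAut.conj m).toMonoidHom := by
  ext x
  rw [Subgroup.mem_centralizer_singleton_iff, Subgroup.mem_map]
  constructor
  · intro hx
    refine ⟨m⁻¹ * x * m, Subgroup.mem_centralizer_singleton_iff.2 ?_, by simp [mul_assoc]⟩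
    calc m⁻¹ * x * m * g = m⁻¹ * (x * (m * g * m⁻¹)) * m := by group
      _ = m⁻¹ * (m * g * m⁻¹ * x) * m := by rw [hx]
      _ = g * (m⁻¹ * x * m) := by group
  · rintro ⟨y, hy, rfl⟩
    rw [Subgroup.mem_centralizer_singleton_iff] at hy
    simp only [MulEquiv.toMonoidHom_eq_coe, MonoidHom.coe_coe, MulAut.conj_apply]
    calc m * y * m⁻¹ * (m * g * m⁻¹) = m * (y * g) * m⁻¹ := by group
      _ = m * (g * y) * m⁻¹ := by rw [hy]
      _ = m * g * m⁻¹ * (m * y * m⁻¹) := by group

/-- A subgroup of the kernel with a single involution is small. -/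
theorem card_le_of_single_involution (d : Data U a b h e q) (W : Subgroup G) (hW : W ≤ U) {t : G}
    (htW : t ∈ W) (ht : orderOf t = 2) (huniq : ∀ x ∈ W, x * x = 1 → x = 1 ∨ x = t) :
    Nat.card W ≤ 8 ∧ (h = q ^ 2 → Nat.card W ≤ 4) := by
  classical
  have htt : t * t = 1 := by rw [← pow_two, ← ht, pow_orderOf_eq_one]
  have ht1 : t ≠ 1 := fun e' => by rw [e', orderOf_one] at ht; omega
  have htc : ∀ y ∈ W, t * y = y * t := fun y hy => d.central t (hW htW) htt y (hW hy)
  have hsq : ∀ x ∈ W, x ≠ 1 → x ≠ t → x * x = t := fun x hx hx1 hxt =>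
    (huniq _ (mul_mem hx hx) (d.sq x (hW hx))).resolve_left fun e' =>
      (huniq x hx e').elim hx1 hxt
  -- commuting elements of order four agree up to `t`
  have hcomm : ∀ x ∈ W, ∀ y ∈ W, x ≠ 1 → x ≠ t → y ≠ 1 → y ≠ t → x * y = y * x →
      y = x ∨ y = x * t := by
    intro x hx y hy hx1 hxt hy1 hyt hxy
    have h1 : x⁻¹ * y * (x⁻¹ * y) = 1 := by
      have hc : Commute x⁻¹ y := (show Commute x y from hxy).inv_left
      calc x⁻¹ * y * (x⁻¹ * y) = x⁻¹ * (y * x⁻¹) * y := by group
        _ = x⁻¹ * (x⁻¹ * y) * y := by rw [hc.eq]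
        _ = (x * x)⁻¹ * (y * y) := by group
        _ = 1 := by rw [hsq x hx hx1 hxt, hsq y hy hy1 hyt, inv_mul_cancel]
    rcases huniq _ (mul_mem (inv_mem hx) hy) h1 with h2 | h2
    · exact Or.inl (inv_mul_eq_one.1 h2).symm
    · exact Or.inr (by rw [← h2, mul_inv_cancel_left])
  have hcard : ∀ S : Finset G, (∀ x ∈ W, x ∈ S) → Nat.card W ≤ S.card := fun S hS => by
    rw [← Nat.card_eq_finsetCard S]
    exact Nat.card_le_card_of_injective (fun x : W => (⟨x.1, hS x.1 x.2⟩ : S))
      fun x y e' => Subtype.ext (Subtype.mk.inj e')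
  by_cases hx : ∃ x ∈ W, x ≠ 1 ∧ x ≠ t
  swap
  · push Not at hx
    have h1 : Nat.card W ≤ 2 := (hcard {1, t} fun x hxW => by
      simp only [Finset.mem_insert, Finset.mem_singleton]
      exact or_iff_not_imp_left.2 (hx x hxW)).trans Finset.card_le_two
    omega
  obtain ⟨x, hxW, hx1, hxt⟩ := hx
  constructor
  · by_cases hy : ∃ y ∈ W, y ≠ 1 ∧ y ≠ t ∧ y ≠ x ∧ y ≠ x * t
    swap
    · push Not at hy
      refine (hcard {1, t, x, x * t} fun z hz => ?_).trans (Finset.card_le_four.trans (by norm_num))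
      simp only [Finset.mem_insert, Finset.mem_singleton]
      by_cases h1 : z = 1
      · exact Or.inl h1
      by_cases h2 : z = t
      · exact Or.inr (Or.inl h2)
      by_cases h3 : z = x
      · exact Or.inr (Or.inr (Or.inl h3))
      exact Or.inr (Or.inr (Or.inr (hy z hz h1 h2 h3)))
    obtain ⟨y, hyW, hy1, hyt, hyx, hyxt⟩ := hy
    have hncm : ∀ u ∈ W, ∀ v ∈ W, u * v ≠ v * u → u * v = t * (v * u) := by
      intro u hu v hv huv
      have h1 : u * v * u⁻¹ * v⁻¹ = t :=
        (huniq _ (mul_mem (mul_mem (mul_mem hu hv) (inv_mem hu)) (inv_mem hv))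
          (d.comm u (hW hu) v (hW hv))).resolve_left fun e' => huv (by
            rw [mul_inv_eq_one, mul_inv_eq_iff_eq_mul] at e'
            exact e')
      rw [← h1]
      group
    have hxy : x * y ≠ y * x := fun e' => by
      rcases hcomm x hxW y hyW hx1 hxt hy1 hyt e' with h1 | h1
      exacts [hyx h1, hyxt h1]
    have hxy1 : x * y ≠ 1 := fun e' => hxy (by rw [e', (mul_eq_one_iff_inv_eq.1 e').symm, inv_mul_cancel])
    have hxyt : x * y ≠ t := fun e' => hxy (by
      have h1 : y = x⁻¹ * t := by rw [← e', inv_mul_cancel_left]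
      rw [e', h1, mul_assoc, htc x hxW, inv_mul_cancel_left])
    refine (hcard ({1, t, x, x * t, y, y * t, x * y, x * y * t} : Finset G) fun z hz => ?_).trans
      (by repeat' (first | exact le_rfl | refine (Finset.card_insert_le _ _).trans (Nat.succ_le_succ ?_))
          all_goals simp)
    simp only [Finset.mem_insert, Finset.mem_singleton]
    by_cases h1 : z = 1
    · exact Or.inl h1
    by_cases h2 : z = t
    · exact Or.inr (Or.inl h2)
    by_cases hzx : x * z = z * x
    · rcases hcomm x hxW z hz hx1 hxt h1 h2 hzx with h3 | h3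
      · exact Or.inr (Or.inr (Or.inl h3))
      · exact Or.inr (Or.inr (Or.inr (Or.inl h3)))
    by_cases hzy : y * z = z * y
    · rcases hcomm y hyW z hz hy1 hyt h1 h2 hzy with h3 | h3
      · exact Or.inr (Or.inr (Or.inr (Or.inr (Or.inl h3))))
      · exact Or.inr (Or.inr (Or.inr (Or.inr (Or.inr (Or.inl h3)))))
    have hzxy : x * y * z = z * (x * y) := by
      calc x * y * z = x * (y * z) := mul_assoc _ _ _
        _ = x * (t * (z * y)) := by rw [hncm y hyW z hz hzy]
        _ = x * t * (z * y) := by rw [mul_assoc]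
        _ = t * (x * z) * y := by rw [← htc x hxW]; group
        _ = t * t * (z * x) * y := by rw [hncm x hxW z hz hzx]; group
        _ = z * (x * y) := by rw [htt, one_mul, mul_assoc]
    rcases hcomm (x * y) (mul_mem hxW hyW) z hz hxy1 hxyt h1 h2 hzxy with h3 | h3
    · exact Or.inr (Or.inr (Or.inr (Or.inr (Or.inr (Or.inr (Or.inl h3))))))
    · exact Or.inr (Or.inr (Or.inr (Or.inr (Or.inr (Or.inr (Or.inr h3))))))
  · intro hh
    refine (hcard {1, t, x, x * t} fun z hz => ?_).trans Finset.card_le_four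
    simp only [Finset.mem_insert, Finset.mem_singleton]
    by_cases h1 : z = 1
    · exact Or.inl h1
    by_cases h2 : z = t
    · exact Or.inr (Or.inl h2)
    have h3 := d.sq_inj hh (hW hxW) (hW hz) ((hsq x hxW hx1 hxt).trans (hsq z hz h1 h2).symm)
    rcases huniq _ (mul_mem (inv_mem hxW) hz) h3 with h4 | h4
    · exact Or.inr (Or.inr (Or.inl (inv_mul_eq_one.1 h4).symm))
    · exact Or.inr (Or.inr (Or.inr (by rw [← h4, mul_inv_cancel_left])))

namespace Data

/-- An element commuting with an involution fixes no point but that of the involution. -/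
theorem eq_one_of_commute (d : Data U a b h e q) {t y : G} (ht : orderOf t = 2)
    (hty : y * t = t * y) {c x : Ω} (hc : t • c = c) (hx : y • x = x) (hxc : x ≠ c) : y = 1 := by
  have huniq : ∀ z : Ω, t • z = z → z = c := fun z hz => (d.existsUnique_fix ht).unique hz hc
  have hyc : y • c = c := huniq _ (by rw [← mul_smul, ← hty, mul_smul, hc])
  refine d.setup.zass.2.2.1 y c x (t • x) hxc.symm (fun e' => hxc (huniq x e'.symm))
    (fun e' => hxc (smul_left_cancel t (e'.symm.trans hc.symm))) hyc hx ?_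
  rw [← mul_smul, hty, mul_smul, hx]

/-- The centraliser of a real fixed-point-free element. -/
theorem centralizer_facts (d : Data U a b h e q) {g t : G} (hfree : ∀ c : Ω, g • c ≠ c)
    (ht : orderOf t = 2) (htg : t * g * t⁻¹ = g⁻¹) :
    (∀ y ∈ Subgroup.centralizer ({g} : Set G), t * y * t⁻¹ = y⁻¹) ∧
      Odd (Nat.card (Subgroup.centralizer ({g} : Set G))) ∧
      (∀ y ∈ Subgroup.centralizer ({g} : Set G), ∀ z ∈ Subgroup.centralizer ({g} : Set G),
        y * z = z * y) ∧
      ∀ y ∈ Subgroup.centralizer ({g} : Set G), y ≠ 1 →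
        IsRealFree Ω y ∧ Subgroup.centralizer ({y} : Set G) = Subgroup.centralizer ({g} : Set G) := by
  classical
  -- the facts for one element
  have key : ∀ g : G, (∀ c : Ω, g • c ≠ c) → t * g * t⁻¹ = g⁻¹ →
      (∀ y ∈ Subgroup.centralizer ({g} : Set G), t * y * t⁻¹ = y⁻¹) ∧
        Odd (Nat.card (Subgroup.centralizer ({g} : Set G))) ∧
        (∀ y ∈ Subgroup.centralizer ({g} : Set G), ∀ z ∈ Subgroup.centralizer ({g} : Set G),
          y * z = z * y) ∧
        ∀ y ∈ Subgroup.centralizer ({g} : Set G), y ≠ 1 → ∀ c : Ω, y • c ≠ c := by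
    intro g hfree htg
    set C := Subgroup.centralizer ({g} : Set G) with hC
    have htt : t * t = 1 := by rw [← pow_two, ← ht, pow_orderOf_eq_one]
    have hCm : ∀ y ∈ C, t * y * t⁻¹ ∈ C := by
      intro y hy
      rw [hC, Subgroup.mem_centralizer_singleton_iff] at hy ⊢
      have hy' : y * g⁻¹ = g⁻¹ * y := (show Commute y g from hy).inv_right.eq
      have hg' : g = t * g⁻¹ * t⁻¹ := by
        rw [← htg, inv_eq_of_mul_eq_one_right htt]
        calc g = (t * t) * g * (t * t) := by rw [htt, one_mul, mul_one]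
          _ = t * (t * g * t) * t := by group
      calc t * y * t⁻¹ * g = t * y * t⁻¹ * (t * g⁻¹ * t⁻¹) := by rw [← hg']
        _ = t * (y * g⁻¹) * t⁻¹ := by group
        _ = t * (g⁻¹ * y) * t⁻¹ := by rw [hy']
        _ = t * g⁻¹ * t⁻¹ * (t * y * t⁻¹) := by group
        _ = g * (t * y * t⁻¹) := by rw [← hg']
    let φ : C →* C :=
      { toFun := fun y => ⟨t * y * t⁻¹, hCm y y.2⟩
        map_one' := Subtype.ext (by simp)
        map_mul' := fun y z => Subtype.ext (by simp only [Subgroup.coe_mul]; group) }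
    obtain ⟨c₀, hc₀, -⟩ := d.existsUnique_fix ht
    have hfpf : MonoidHom.FixedPointFree φ := by
      intro y hy
      have hy' : t * (y : G) * t⁻¹ = y := congrArg Subtype.val hy
      rw [mul_inv_eq_iff_eq_mul] at hy'
      have hyc : (y : G) • c₀ = c₀ :=
        (d.existsUnique_fix ht).unique (by rw [← mul_smul, hy', mul_smul, hc₀]) hc₀
      refine Subtype.ext (d.eq_one_of_commute ht hy'.symm hc₀ (x := g • c₀) ?_ (hfree c₀))
      rw [← mul_smul, Subgroup.mem_centralizer_singleton_iff.1 y.2, mul_smul, hyc]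
    have hinvol : Function.Involutive φ := fun y => Subtype.ext (by
      show t * (t * (y : G) * t⁻¹) * t⁻¹ = y
      rw [inv_eq_of_mul_eq_one_right htt]
      calc t * (t * (y : G) * t) * t = t * t * y * (t * t) := by group
        _ = y := by rw [htt, one_mul, mul_one])
    have hodd : Odd (Nat.card C) := hfpf.odd_card_of_involutive hinvol
    refine ⟨fun y hy => congrArg Subtype.val (congrFun (hfpf.coe_eq_inv_of_involutive hinvol) ⟨y, hy⟩),
      hodd, fun y hy z hz =>
        congrArg Subtype.val (hfpf.commute_all_of_involutive hinvol ⟨y, hy⟩ ⟨z, hz⟩),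
      fun y hy hy1 c hc => hy1 ?_⟩
    have hyg : y * g = g * y := Subgroup.mem_centralizer_singleton_iff.1 hy
    have h1 : y • g • c = g • c := by rw [← mul_smul, hyg, mul_smul, hc]
    have h2 : y • g • g • c = g • g • c := by rw [← mul_smul, hyg, mul_smul, h1]
    by_cases h3 : g • g • c = c
    · have h4 := d.inv c (g • c) (hfree c).symm g rfl h3 y (Subgroup.mem_inf.2 ⟨hc, h1⟩)
      rw [← hyg, mul_inv_cancel_right] at h4
      refine SimpleOdd.eq_one_of_sq (Odd.of_dvd_nat hodd
        (Subgroup.orderOf_dvd_natCard _ hy)) ?_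
      rw [pow_two]
      nth_rw 2 [h4]
      exact mul_inv_cancel y
    · exact d.setup.zass.2.2.1 y c (g • c) (g • g • c) (hfree c).symm
        (fun e' => hfree (g • c) e'.symm) (fun e' => h3 e'.symm) hc h1 h2
  obtain ⟨h1, h2, h3, h4⟩ := key g hfree htg
  refine ⟨h1, h2, h3, fun y hy hy1 => ⟨⟨h4 y hy hy1, t, ht, h1 y hy⟩, le_antisymm ?_ fun z hz => ?_⟩⟩
  · intro z hz
    obtain ⟨-, -, hcy, -⟩ := key y (h4 y hy hy1) (h1 y hy)
    rw [Subgroup.mem_centralizer_singleton_iff]
    exact hcy z hz g (Subgroup.mem_centralizer_singleton_iff.2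
      (Subgroup.mem_centralizer_singleton_iff.1 hy).symm)
  · exact Subgroup.mem_centralizer_singleton_iff.2 (h3 z hz y hy)

theorem centralizer_of_mem (d : Data U a b h e q) {g y : G} (hg : IsRealFree Ω g)
    (hy : y ∈ Subgroup.centralizer ({g} : Set G)) (hy1 : y ≠ 1) :
    IsRealFree Ω y ∧ Subgroup.centralizer ({y} : Set G) = Subgroup.centralizer ({g} : Set G) := by
  obtain ⟨t, ht, htg⟩ := hg.2
  exact (d.centralizer_facts hg.1 ht htg).2.2.2 y hy hy1

theorem realFree_ne_one {g : G} (hg : IsRealFree Ω g) (c : Ω) : g ≠ 1 := fun e' =>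
  hg.1 c (by rw [e', one_smul])

/-- The centraliser acts semiregularly on the points. -/
theorem card_centralizer_dvd (d : Data U a b h e q) {g : G} (hg : IsRealFree Ω g) :
    Nat.card (Subgroup.centralizer ({g} : Set G)) ∣ h + 1 := by
  classical
  have hstab : ∀ c : Ω, stabilizer (Subgroup.centralizer ({g} : Set G)) c = ⊥ := by
    intro c
    refine eq_bot_iff.2 fun y hy => Subgroup.mem_bot.2 ?_
    by_contra hy1
    exact (d.centralizer_of_mem hg y.2 fun e' => hy1 (Subtype.ext e')).1.1 c hy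
  refine ⟨Nat.card (Quotient (orbitRel (Subgroup.centralizer ({g} : Set G)) Ω)), ?_⟩
  rw [← d.setup.card, ← Nat.card_eq_fintype_card,
    Nat.card_congr (selfEquivOrbitsQuotientProd hstab), Nat.card_prod, mul_comm]

theorem odd_centralizer (d : Data U a b h e q) {g : G} (hg : IsRealFree Ω g) :
    Odd (Nat.card (Subgroup.centralizer ({g} : Set G))) := by
  obtain ⟨t, ht, htg⟩ := hg.2
  exact (d.centralizer_facts hg.1 ht htg).2.1

theorem two_le_centralizer (d : Data U a b h e q) {g : G} (hg : IsRealFree Ω g) :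
    3 ≤ Nat.card (Subgroup.centralizer ({g} : Set G)) := by
  have h1 : Nat.card (Subgroup.centralizer ({g} : Set G)) ≠ 1 := fun e' => by
    have : g ∈ Subgroup.centralizer ({g} : Set G) := Subgroup.mem_centralizer_singleton_iff.2 rfl
    rw [Subgroup.card_eq_one.1 e', Subgroup.mem_bot] at this
    exact hg.1 a (by rw [this, one_smul])
  obtain ⟨j, hj⟩ := d.odd_centralizer hg
  omega

/-- The involutions inverting a real fixed-point-free element. -/
theorem card_inverting (d : Data U a b h e q) {g : G} (hg : IsRealFree Ω g) :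
    Nat.card {s : G // orderOf s = 2 ∧ s * g * s⁻¹ = g⁻¹} =
      Nat.card (Subgroup.centralizer ({g} : Set G)) := by
  obtain ⟨t, ht, htg⟩ := hg.2
  obtain ⟨hinv, -, -, -⟩ := d.centralizer_facts hg.1 ht htg
  have htt : t * t = 1 := by rw [← pow_two, ← ht, pow_orderOf_eq_one]
  have hti : t⁻¹ = t := inv_eq_of_mul_eq_one_right htt
  symm
  refine Nat.card_eq_of_bijective (fun y : Subgroup.centralizer ({g} : Set G) =>
    (⟨t * y, ?_, ?_⟩ : {s : G // orderOf s = 2 ∧ s * g * s⁻¹ = g⁻¹})) ⟨?_, ?_⟩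
  · refine orderOf_eq_prime ?_ fun e' => ?_
    · have h1 := hinv y y.2
      rw [hti] at h1
      rw [pow_two, ← mul_assoc, h1, inv_mul_cancel]
    · have h1 : (y : G) = t := by
        rw [mul_eq_one_iff_inv_eq, hti] at e'
        exact e'.symm
      have h2 := Subgroup.mem_centralizer_singleton_iff.1 y.2
      rw [h1] at h2
      have h3 : g = g⁻¹ := by rw [← htg, h2, mul_inv_cancel_right]
      refine realFree_ne_one hg a (SimpleOdd.eq_one_of_sq (Odd.of_dvd_nat (d.odd_centralizer hg)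
        (Subgroup.orderOf_dvd_natCard _ (Subgroup.mem_centralizer_singleton_iff.2 rfl))) ?_)
      rw [pow_two]
      nth_rw 2 [h3]
      exact mul_inv_cancel g
  · have h1 := Subgroup.mem_centralizer_singleton_iff.1 y.2
    calc t * (y : G) * g * (t * y)⁻¹ = t * ((y : G) * g * (y : G)⁻¹) * t⁻¹ := by group
      _ = g⁻¹ := by rw [h1, mul_inv_cancel_right, htg]
  · intro y z e'
    exact Subtype.ext (mul_left_cancel (congrArg Subtype.val e' : t * (y : G) = t * z))
  · rintro ⟨s, hs, hsg⟩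
    refine ⟨⟨t * s, Subgroup.mem_centralizer_singleton_iff.2 ?_⟩, Subtype.ext ?_⟩
    · have h1 : s * g = g⁻¹ * s := mul_inv_eq_iff_eq_mul.1 hsg
      have h2 : t * g⁻¹ = g * t := by
        rw [← htg, hti, ← mul_assoc, ← mul_assoc, htt, one_mul]
      calc t * s * g = t * (s * g) := mul_assoc _ _ _
        _ = t * g⁻¹ * s := by rw [h1, mul_assoc]
        _ = g * (t * s) := by rw [h2, mul_assoc]
    · show t * (t * s) = s
      rw [← mul_assoc, htt, one_mul]

/-- The normaliser of the centraliser of a real fixed-point-free element. -/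
theorem normalizer_facts (d : Data U a b h e q) {g : G} (hg : IsRealFree Ω g) :
    ∃ W : Subgroup G,
      Nat.card ↥(Subgroup.normalizer (Subgroup.centralizer ({g} : Set G) : Set G)) =
        Nat.card (Subgroup.centralizer ({g} : Set G)) * Nat.card W ∧
      Even (Nat.card W) ∧ Nat.card W < Nat.card (Subgroup.centralizer ({g} : Set G)) ∧
      (Nat.card W ∣ h ∧ Nat.card W ∣ Nat.card (Subgroup.centralizer ({g} : Set G)) - 1) ∧
      Nat.card W ≤ 8 ∧ (h = q ^ 2 → Nat.card W ≤ 4) ∧
      ∀ y ∈ Subgroup.centralizer ({g} : Set G), y ≠ 1 →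
        ∀ z ∈ Subgroup.centralizer ({g} : Set G), IsConj y z → ∃ w ∈ W, w * y * w⁻¹ = z := by
  classical
  obtain ⟨t, ht, htg⟩ := hg.2
  obtain ⟨hinv, hodd, hcomm, hmem⟩ := d.centralizer_facts hg.1 ht htg
  set C := Subgroup.centralizer ({g} : Set G) with hC
  have htt : t * t = 1 := by rw [← pow_two, ← ht, pow_orderOf_eq_one]
  have hti : t⁻¹ = t := inv_eq_of_mul_eq_one_right htt
  have hgC : g ∈ C := Subgroup.mem_centralizer_singleton_iff.2 rfl
  have hg1 : g ≠ 1 := realFree_ne_one hg a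
  set N := Subgroup.normalizer (C : Set G) with hN
  set W := N ⊓ Subgroup.centralizer ({t} : Set G) with hWdef
  have hNm : ∀ n ∈ N, ∀ y ∈ C, n * y * n⁻¹ ∈ C :=
    fun n hn y hy => (Subgroup.mem_normalizer_iff.1 hn y).1 hy
  have hCN : C ≤ N := Subgroup.le_normalizer
  have htN : t ∈ N := by
    refine Subgroup.mem_normalizer_iff.2 fun y => ⟨fun hy => by rw [hinv y hy]; exact inv_mem hy,
      fun hy => ?_⟩
    have h1 := hinv _ hy
    rw [show t * (t * y * t⁻¹) * t⁻¹ = y by
      rw [hti]; calc t * (t * y * t) * t = t * t * y * (t * t) := by group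
        _ = y := by rw [htt, one_mul, mul_one]] at h1
    exact h1 ▸ inv_mem hy
  have hWt : ∀ w ∈ W, w * t = t * w := fun w hw =>
    Subgroup.mem_centralizer_singleton_iff.1 (Subgroup.mem_inf.1 hw).2
  have hsqC : ∀ y ∈ C, y * y = 1 → y = 1 := fun y hy h1 => SimpleOdd.eq_one_of_sq
    (Odd.of_dvd_nat hodd (Subgroup.orderOf_dvd_natCard _ hy)) (by rw [pow_two, h1])
  -- `C` meets `W` trivially
  have hdisj : ∀ y ∈ C, y ∈ W → y = 1 := fun y hy hyW => hsqC y hy (by
    have h1 := hinv y hy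
    rw [← hWt y hyW, mul_inv_cancel_right] at h1
    nth_rw 2 [h1]
    exact mul_inv_cancel y)
  have hdec : ∀ n ∈ N, ∃ z ∈ C, z * n ∈ W := by
    intro n hn
    obtain ⟨j, hj⟩ := hodd
    -- `t n t⁻¹ n⁻¹` lies in `C`
    have hd : t * n * t⁻¹ * n⁻¹ ∈ C := by
      rw [hC, Subgroup.mem_centralizer_singleton_iff]
      have hgn : n⁻¹ * g * n ∈ C := by simpa using hNm n⁻¹ (inv_mem hn) g hgC
      have h1 : t⁻¹ * g * t = g⁻¹ := by
        have := hinv g hgC
        rw [hti] at this ⊢
        exact this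
      have h2 : t * (n * (t⁻¹ * (n⁻¹ * g * n) * t) * n⁻¹) * t⁻¹ = g := by
        have h3 := hinv _ hgn
        rw [hti] at h3
        rw [hti, h3]
        calc t * (n * (n⁻¹ * g * n)⁻¹ * n⁻¹) * t = t * g⁻¹ * t := by group
          _ = g := by
            have h4 := congrArg (·⁻¹) h1
            simpa [hti, mul_assoc] using h4
      calc t * n * t⁻¹ * n⁻¹ * g
          = t * (n * (t⁻¹ * (n⁻¹ * g * n) * t) * n⁻¹) * t⁻¹ * (t * n * t⁻¹ * n⁻¹) := by group
        _ = g * (t * n * t⁻¹ * n⁻¹) := by rw [h2]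
    set u := t * n * t⁻¹ * n⁻¹ with hu
    refine ⟨u ^ (j + 1), pow_mem hd _, Subgroup.mem_inf.2 ⟨mul_mem (hCN (pow_mem hd _)) hn, ?_⟩⟩
    have hz2 : u ^ (j + 1) * u ^ (j + 1) = u := by
      rw [← pow_add, show (j + 1) + (j + 1) = Nat.card C + 1 by omega, pow_succ,
        show u ^ Nat.card C = 1 from orderOf_dvd_iff_pow_eq_one.1
          (Subgroup.orderOf_dvd_natCard _ hd), one_mul]
    set z := u ^ (j + 1) with hz
    have hzt : t * z * t⁻¹ = z⁻¹ := hinv z (pow_mem hd _)
    rw [Subgroup.mem_centralizer_singleton_iff]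
    have h5 : t * (z * n) * t⁻¹ = z * n := by
      calc t * (z * n) * t⁻¹ = (t * z * t⁻¹) * (t * n * t⁻¹ * n⁻¹) * n := by group
        _ = z⁻¹ * (z * z) * n := by rw [hzt, ← hu, hz2]
        _ = z * n := by group
    exact (mul_inv_eq_iff_eq_mul.1 h5).symm
  have htW : t ∈ W := Subgroup.mem_inf.2 ⟨htN, Subgroup.mem_centralizer_singleton_iff.2 rfl⟩
  have hfree : ∀ w ∈ W, ∀ y ∈ C, y ≠ 1 → w * y * w⁻¹ = y → w = 1 := by
    intro w hw y hy hy1 he
    refine hdisj w ?_ hw
    rw [← (hmem y hy hy1).2, Subgroup.mem_centralizer_singleton_iff]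
    exact mul_inv_eq_iff_eq_mul.1 he
  -- the only involution of `W`
  have huniq : ∀ x ∈ W, x * x = 1 → x = 1 ∨ x = t := by
    intro x hx hxx
    refine or_iff_not_imp_left.2 fun hx1 => ?_
    have hxi : x⁻¹ = x := inv_eq_of_mul_eq_one_right hxx
    -- `x` inverts `g`
    have hy : x * g * x⁻¹ ∈ C := hNm x (Subgroup.mem_inf.1 hx).1 g hgC
    have hprod : g * (x * g * x⁻¹) = 1 := by
      by_contra hne
      refine hx1 (hfree x hx _ (mul_mem hgC hy) hne ?_)
      rw [hcomm g hgC _ hy]
      calc x * (x * g * x⁻¹ * g) * x⁻¹ = (x * x) * g * x⁻¹ * g * x⁻¹ := by group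
        _ = g * (x * g * x⁻¹) := by rw [hxx, hxi]; group
        _ = x * g * x⁻¹ * g := hcomm g hgC _ hy
    have hxg : x * g * x⁻¹ = g⁻¹ := (inv_eq_of_mul_eq_one_right hprod).symm
    have hmem' : t * x ∈ C := by
      rw [hC, Subgroup.mem_centralizer_singleton_iff]
      have h1 : x * g = g⁻¹ * x := mul_inv_eq_iff_eq_mul.1 hxg
      have h2 : t * g⁻¹ = g * t := by
        rw [← htg, hti, ← mul_assoc, ← mul_assoc, htt, one_mul]
      calc t * x * g = t * (x * g) := mul_assoc _ _ _
        _ = t * g⁻¹ * x := by rw [h1, mul_assoc]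
        _ = g * (t * x) := by rw [h2, mul_assoc]
    have h3 := hdisj _ hmem' (mul_mem htW hx)
    rw [mul_eq_one_iff_inv_eq, hti] at h3
    exact h3.symm
  -- transfer into the kernel
  obtain ⟨m, hm⟩ := d.exists_conj_mem ht
  have ht' : orderOf (m * t * m⁻¹) = 2 := (MulEquiv.orderOf_eq (MulAut.conj m) t).trans ht
  have hWU : W.map (MulAut.conj m).toMonoidHom ≤ U := by
    rintro _ ⟨w, hw, rfl⟩
    refine d.setup.centralizer_le _ hm (fun e' => by rw [e', orderOf_one] at ht'; omega) ?_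
    rw [Subgroup.mem_centralizer_singleton_iff]
    simp only [MulEquiv.toMonoidHom_eq_coe, MonoidHom.coe_coe, MulAut.conj_apply]
    calc m * w * m⁻¹ * (m * t * m⁻¹) = m * (w * t) * m⁻¹ := by group
      _ = m * (t * w) * m⁻¹ := by rw [hWt w hw]
      _ = m * t * m⁻¹ * (m * w * m⁻¹) := by group
  have hsmall := card_le_of_single_involution d (W.map (MulAut.conj m).toMonoidHom) hWU
    (t := m * t * m⁻¹) ⟨t, htW, rfl⟩ ht' (by
      rintro _ ⟨w, hw, rfl⟩ h1
      rw [MulEquiv.toMonoidHom_eq_coe, MonoidHom.coe_coe, ← map_mul, map_eq_one_iff _ (MulAut.conj m).injective] at h1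
      rcases huniq w hw h1 with rfl | rfl
      · exact Or.inl (map_one _)
      · exact Or.inr rfl)
  rw [Subgroup.card_map_of_injective (MulAut.conj m).injective] at hsmall
  have hWeven : Even (Nat.card W) :=
    even_iff_two_dvd.2 (ht ▸ Subgroup.orderOf_dvd_natCard _ htW)
  refine ⟨W, ?_, hWeven, ?_, ⟨?_, ?_⟩, hsmall.1, hsmall.2, ?_⟩
  · rw [← Nat.card_prod]
    symm
    refine Nat.card_eq_of_bijective (fun p : C × W => (⟨p.1.1 * p.2.1,
      mul_mem (hCN p.1.2) (Subgroup.mem_inf.1 p.2.2).1⟩ : N)) ⟨?_, ?_⟩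
    · rintro ⟨y, w⟩ ⟨y', w'⟩ e'
      have e1 : (y : G) * w = y' * w' := congrArg Subtype.val e'
      have h1 : (y' : G)⁻¹ * y = w' * (w : G)⁻¹ := by
        rw [inv_mul_eq_iff_eq_mul, ← mul_assoc, ← e1, mul_inv_cancel_right]
      have h2 := hdisj _ (mul_mem (inv_mem y'.2) y.2) (h1 ▸ mul_mem w'.2 (inv_mem w.2))
      have h3 : y = y' := Subtype.ext (inv_mul_eq_one.1 h2).symm
      subst h3
      exact Prod.ext rfl (Subtype.ext (mul_left_cancel e1))
    · rintro ⟨n, hn⟩
      obtain ⟨z, hz, hzn⟩ := hdec n hn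
      exact ⟨⟨⟨z⁻¹, inv_mem hz⟩, ⟨z * n, hzn⟩⟩, Subtype.ext (inv_mul_cancel_left z n)⟩
  · -- `W` moves `g` to non-trivial elements of `C`
    have hle : Nat.card W + 1 ≤ Nat.card C := by
      rw [← Finite.card_option]
      let f : Option W → C := fun o => o.elim 1 fun w =>
        ⟨w * g * (w : G)⁻¹, hNm w (Subgroup.mem_inf.1 w.2).1 g hgC⟩
      have hne : ∀ w : W, f (some w) ≠ 1 := fun w e' => hg1 (by
        have h1 : (w : G) * g * (w : G)⁻¹ = 1 := congrArg Subtype.val e'
        exact conj_eq_one_iff.1 h1)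
      refine Nat.card_le_card_of_injective f ?_
      rintro (_ | w) (_ | w') e'
      · rfl
      · exact absurd e'.symm (hne w')
      · exact absurd e' (hne w)
      · have e1 : (w : G) * g * (w : G)⁻¹ = w' * g * (w' : G)⁻¹ := congrArg Subtype.val e'
        have h1 := hfree _ (mul_mem (inv_mem w'.2) w.2) g hgC hg1 (by
          calc (w' : G)⁻¹ * w * g * ((w' : G)⁻¹ * w)⁻¹
              = (w' : G)⁻¹ * ((w : G) * g * (w : G)⁻¹) * w' := by group
            _ = g := by rw [e1]; group)
        exact congrArg some (Subtype.ext (inv_mul_eq_one.1 h1).symm)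
    omega
  · rw [← d.setup.cardH_eq, ← Subgroup.card_map_of_injective (f := (MulAut.conj m).toMonoidHom) (K := W) (MulAut.conj m).injective]
    exact Subgroup.card_dvd_of_le hWU
  · -- `W` acts freely on `C#`
    letI : MulAction W {y : G // y ∈ C ∧ y ≠ 1} :=
      { smul := fun w y => ⟨(w : G) * y.1 * (w : G)⁻¹, hNm w (Subgroup.mem_inf.1 w.2).1 y.1 y.2.1,
          fun e' => y.2.2 (conj_eq_one_iff.1 e')⟩
        one_smul := fun y => Subtype.ext (by
          show ((1 : W) : G) * y.1 * ((1 : W) : G)⁻¹ = y.1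
          simp)
        mul_smul := fun w w' y => Subtype.ext (by
          show ((w * w' : W) : G) * y.1 * ((w * w' : W) : G)⁻¹ =
            (w : G) * ((w' : G) * y.1 * (w' : G)⁻¹) * (w : G)⁻¹
          simp [mul_assoc]) }
    have hst : ∀ y : {y : G // y ∈ C ∧ y ≠ 1}, stabilizer W y = ⊥ := fun y => by
      refine eq_bot_iff.2 fun w hw => Subgroup.mem_bot.2 (Subtype.ext ?_)
      exact hfree w w.2 y.1 y.2.1 y.2.2 (congrArg Subtype.val hw)
    refine ⟨Nat.card (Quotient (orbitRel W {y : G // y ∈ C ∧ y ≠ 1})), ?_⟩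
    rw [mul_comm, ← Nat.card_prod, ← Nat.card_congr (selfEquivOrbitsQuotientProd hst),
      Nat.card_eq_fintype_card, Nat.card_eq_fintype_card, Fintype.card_subtype, Fintype.card_subtype,
      ← Finset.card_erase_of_mem (show (1 : G) ∈ Finset.univ.filter fun z => z ∈ C by simp)]
    congr 1
    ext z
    simp [and_comm]
  · intro y hy hy1 z hz hyz
    obtain ⟨x, rfl⟩ := isConj_iff.1 hyz
    have hxN : x ∈ N := by
      have h1 : C.map (MulAut.conj x).toMonoidHom = C := by
        rw [← (hmem y hy hy1).2, ← centralizer_conj,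
          (hmem (x * y * x⁻¹) hz fun e' => hy1 (conj_eq_one_iff.1 e')).2, (hmem y hy hy1).2]
      refine Subgroup.mem_normalizer_iff.2 fun c => ⟨fun hc => h1 ▸ ⟨c, hc, rfl⟩, fun hc => ?_⟩
      obtain ⟨c', hc', he'⟩ := (h1.symm ▸ hc : x * c * x⁻¹ ∈ C.map (MulAut.conj x).toMonoidHom)
      simp only [MulEquiv.toMonoidHom_eq_coe, MonoidHom.coe_coe, MulAut.conj_apply, mul_left_inj,
        mul_right_inj] at he'
      exact he' ▸ hc'
    obtain ⟨c, hc, hcx⟩ := hdec x hxN
    refine ⟨c * x, hcx, ?_⟩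
    calc c * x * y * (c * x)⁻¹ = c * (x * y * x⁻¹) * c⁻¹ := by group
      _ = x * y * x⁻¹ := by rw [hcomm c hc _ hz, mul_inv_cancel_right]

end Data

end Cfsg.Agent.Lib.Zassenhaus.TwoKernel
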