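import Mathlib
import Cfsg.Agent.Lib.Zassenhaus.TwoKernel.RealFree

/-!
Counting of pairs of involutions by their product.
-/

set_option autoImplicit false

namespace Cfsg.Agent.Lib.Zassenhaus.TwoKernel

open MulAction Cfsg Cfsg.Agent.Lib

variable {G Ω : Type*} [Group G] [Fintype G] [MulAction G Ω] [Fintype Ω]
  {U : Subgroup G} {a b : Ω} {h e q : ℕ}

open Classical in
/-- The involutions. -/
noncomputable def invols (G : Type*) [Group G] [Fintype G] : Finset G :=
  Finset.univ.filter fun x => orderOf x = 2

theorem mem_invols {x : G} : x ∈ invols G ↔ orderOf x = 2 := by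
  simp [invols]

omit [Fintype G] in
theorem conj_of_involutions {s t : G} (hs : orderOf s = 2) (ht : orderOf t = 2) :
    s * (s * t) * s⁻¹ = (s * t)⁻¹ := by
  have hss : s * s = 1 := by rw [← pow_two, ← hs, pow_orderOf_eq_one]
  have htt : t * t = 1 := by rw [← pow_two, ← ht, pow_orderOf_eq_one]
  rw [mul_inv_rev, inv_eq_of_mul_eq_one_right htt, ← mul_assoc s s t, hss, one_mul]

/-- Fixing exactly two points. -/
def IsTwoFix (Ω : Type*) {G : Type*} [Group G] [MulAction G Ω] (g : G) : Prop :=
  g ≠ 1 ∧ ∃ c d : Ω, c ≠ d ∧ g • c = c ∧ g • d = d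

namespace Data

theorem card_invols (d : Data U a b h e q) : (invols G).card = e * (h + 1) := by
  classical
  have h1 := SimpleOdd.card_involutions d.setup.zass d.inv d.setup.ne d.hodd
  rw [d.setup.card, d.setup.pair, if_pos (by simpa using d.even_h)] at h1
  rw [invols, ← h1, Nat.card_eq_fintype_card, Fintype.card_subtype]

open Classical in
/-- Exactly `e` involutions fix a given point. -/
theorem card_fixing (d : Data U a b h e q) (c : Ω) :
    ((invols G).filter fun x => x • c = c).card = e := by
  have hle : ∀ c : Ω, ((invols G).filter fun x => x • c = c).card ≤ e := fun c => by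
    refine le_trans (le_of_eq ?_) (d.setup.pair ▸
      ClassCount.card_fixing_le d.setup.zass d.inv d.setup.ne d.hodd c)
    rw [Nat.card_eq_fintype_card, Fintype.card_subtype]
    congr 1
    ext x
    simp [invols]
  have hsum : ∑ c : Ω, ((invols G).filter fun x => x • c = c).card = ∑ _c : Ω, e := by
    rw [Finset.sum_const, Finset.card_univ, d.setup.card, smul_eq_mul, mul_comm, ← d.card_invols]
    have hs := Finset.sum_card_bipartiteAbove_eq_sum_card_bipartiteBelow (s := invols G)
      (t := (Finset.univ : Finset Ω)) (fun x c => x • c = c)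
    refine hs.symm.trans ?_
    rw [Finset.card_eq_sum_ones (invols G)]
    refine Finset.sum_congr rfl fun x hx => ?_
    obtain ⟨c₀, hc₀, huniq⟩ := d.existsUnique_fix (mem_invols.1 hx)
    rw [Finset.bipartiteAbove, Finset.card_eq_one]
    refine ⟨c₀, ?_⟩
    ext c'
    simp only [Finset.mem_filter, Finset.mem_univ, true_and, Finset.mem_singleton]
    exact ⟨huniq c', fun e' => e' ▸ hc₀⟩
  exact (Finset.sum_eq_sum_iff_of_le fun c _ => hle c).1 hsum c (Finset.mem_univ c)

open Classical in
theorem card_same_fix (d : Data U a b h e q) {s : G} (hs : s ∈ invols G) :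
    ((invols G).filter fun t => ∃ c : Ω, s • c = c ∧ t • c = c).card = e := by
  obtain ⟨c, hc, huniq⟩ := d.existsUnique_fix (mem_invols.1 hs)
  refine Eq.trans ?_ (d.card_fixing c)
  congr 1
  refine Finset.filter_congr fun t _ => ⟨?_, fun h1 => ⟨c, hc, h1⟩⟩
  rintro ⟨c', h1, h2⟩
  exact huniq c' h1 ▸ h2

/-- The product of two involutions with different fixed points. -/
theorem pair_product (d : Data U a b h e q) {s t : G} (hs : orderOf s = 2) (ht : orderOf t = 2)
    (hne : ¬ ∃ c : Ω, s • c = c ∧ t • c = c) : IsTwoFix Ω (s * t) ∨ IsRealFree Ω (s * t) := by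
  have hss : s * s = 1 := by rw [← pow_two, ← hs, pow_orderOf_eq_one]
  have hg1 : s * t ≠ 1 := fun e' => hne (by
    obtain ⟨c, hc, -⟩ := d.existsUnique_fix hs
    refine ⟨c, hc, ?_⟩
    rw [eq_inv_of_mul_eq_one_right e', inv_eq_of_mul_eq_one_right hss, hc])
  by_cases hfix : ∃ c : Ω, (s * t) • c = c
  · obtain ⟨c, hc⟩ := hfix
    have hsc : (s * t) • s • c = s • c := by
      have h1 : s * t * s = s * (s * t)⁻¹ := by
        rw [← conj_of_involutions hs ht, inv_eq_of_mul_eq_one_right hss]
        simp only [← mul_assoc, hss, one_mul]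
      rw [← mul_smul, h1, mul_smul, inv_smul_eq_iff.2 hc.symm]
    refine Or.inl ⟨hg1, c, s • c, fun e' => hne ⟨c, e'.symm, smul_left_cancel s ?_⟩, hc, hsc⟩
    rw [← mul_smul, hc]
    exact e'
  · push Not at hfix
    exact Or.inr ⟨hfix, s, hs, conj_of_involutions hs ht⟩

open Classical in
/-- The number of pairs of involutions with a given product. -/
theorem card_pairs_product (d : Data U a b h e q) {g : G} (hg : IsTwoFix Ω g ∨ IsRealFree Ω g) :
    (((invols G ×ˢ invols G).filter fun p => ¬ ∃ c : Ω, p.1 • c = c ∧ p.2 • c = c).filter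
      fun p => p.1 * p.2 = g).card = Nat.card {s : G // orderOf s = 2 ∧ s * g * s⁻¹ = g⁻¹} := by
  have hg1 : g ≠ 1 := hg.elim (fun h1 => h1.1) fun h1 => realFree_ne_one h1 a
  rw [Nat.card_eq_fintype_card, Fintype.card_subtype]
  refine Finset.card_bij (fun p _ => p.1) ?_ ?_ ?_
  · intro p hp
    simp only [Finset.mem_filter, Finset.mem_product, mem_invols] at hp
    refine Finset.mem_filter.2 ⟨Finset.mem_univ _, hp.1.1.1, ?_⟩
    rw [← hp.2]
    exact conj_of_involutions hp.1.1.1 hp.1.1.2
  · intro p hp p' hp' e'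
    simp only [Finset.mem_filter] at hp hp'
    refine Prod.ext e' (mul_left_cancel (a := p.1) ?_)
    rw [hp.2, e', hp'.2]
  · intro s hs
    simp only [Finset.mem_filter, Finset.mem_univ, true_and] at hs
    obtain ⟨hs, hsg⟩ := hs
    have hss : s * s = 1 := by rw [← pow_two, ← hs, pow_orderOf_eq_one]
    have hsi : s⁻¹ = s := inv_eq_of_mul_eq_one_right hss
    have hfix2 : ∀ c : Ω, s • c = c → g • c = c → False := by
      intro c hc hgc
      rcases hg with ⟨-, x, y, hxy, hx, hy⟩ | hg'
      swap
      · exact hg'.1 c hgc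
      have hperm : ∀ z : Ω, g • z = z → g • s • z = s • z := fun z hz => by
        have h1 : g * s = s * g⁻¹ := by
          rw [← hsg, hsi, ← mul_assoc, ← mul_assoc, hss, one_mul]
        rw [← mul_smul, h1, mul_smul, inv_smul_eq_iff.2 hz.symm]
      obtain ⟨w, hwc, hw⟩ : ∃ w, w ≠ c ∧ g • w = w := by
        by_cases h1 : x = c
        · exact ⟨y, fun e' => hxy (h1.trans e'.symm), hy⟩
        · exact ⟨x, h1, hx⟩
      refine hg1 (d.setup.zass.2.2.1 g c w (s • w) hwc.symm (fun e' => hwc ?_)
        (fun e' => hwc (smul_left_cancel s (e'.symm.trans hc.symm))) hgc hw (hperm w hw))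
      exact (d.existsUnique_fix hs).unique e'.symm hc
    have hsgo : orderOf (s * g) = 2 := by
      refine orderOf_eq_prime ?_ fun e' => ?_
      · rw [pow_two, ← mul_assoc]
        nth_rw 2 [← hsi]
        rw [hsg, inv_mul_cancel]
      · obtain ⟨c, hc, -⟩ := d.existsUnique_fix hs
        refine hfix2 c hc ?_
        rw [mul_eq_one_iff_inv_eq, hsi] at e'
        rw [← e', hc]
    refine ⟨(s, s * g), Finset.mem_filter.2 ⟨Finset.mem_filter.2 ⟨Finset.mem_product.2
      ⟨mem_invols.2 hs, mem_invols.2 hsgo⟩, ?_⟩, by rw [← mul_assoc, hss, one_mul]⟩, rfl⟩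
    rintro ⟨c, hc, hc'⟩
    refine hfix2 c hc (smul_left_cancel s ?_)
    rw [← mul_smul, hc', hc]

/-- An element with two fixed points is inverted by `e` involutions. -/
theorem card_inverting_twoFix (d : Data U a b h e q) {g : G} (hg : IsTwoFix Ω g) :
    Nat.card {s : G // orderOf s = 2 ∧ s * g * s⁻¹ = g⁻¹} = e := by
  obtain ⟨hg1, c, f, hcf, hc, hf⟩ := hg
  have h2 := d.setup.zass.2.1
  obtain ⟨w, hwc, hwf⟩ := is_two_pretransitive_iff.1 h2 hcf hcf.symm
  have hiff : ∀ s : G, (orderOf s = 2 ∧ s * g * s⁻¹ = g⁻¹) ↔ s • c = f ∧ s • f = c := by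
    intro s
    refine ⟨fun ⟨hs, hsg⟩ => ?_, fun ⟨h1, h1'⟩ => ⟨?_,
      d.inv c f hcf s h1 h1' g (Subgroup.mem_inf.2 ⟨hc, hf⟩)⟩⟩
    · have hss : s * s = 1 := by rw [← pow_two, ← hs, pow_orderOf_eq_one]
      have hperm : ∀ z : Ω, g • z = z → g • s • z = s • z := fun z hz => by
        have h1 : g * s = s * g⁻¹ := by
          rw [← hsg, inv_eq_of_mul_eq_one_right hss, ← mul_assoc, ← mul_assoc, hss, one_mul]
        rw [← mul_smul, h1, mul_smul, inv_smul_eq_iff.2 hz.symm]
      have hmem : ∀ z : Ω, g • z = z → z = c ∨ z = f := by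
        intro z hz
        by_contra hno
        push Not at hno
        exact hg1 (d.setup.zass.2.2.1 g c f z hcf hno.2.symm hno.1.symm hc hf hz)
      have hsc : s • c = f := by
        refine (hmem _ (hperm c hc)).resolve_left fun e' => ?_
        have hsf : s • f = f := (hmem _ (hperm f hf)).resolve_left fun e'' =>
          hcf (smul_left_cancel s (e'.trans e''.symm))
        exact hcf ((d.existsUnique_fix hs).unique e' hsf)
      exact ⟨hsc, by rw [← hsc, ← mul_smul, hss, one_smul]⟩
    · refine orderOf_eq_prime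
        (by rw [pow_two]; exact SimpleOdd.swap_sq d.setup.zass d.inv d.setup.ne d.hodd hcf h1 h1') ?_
      rintro rfl
      exact hcf (by rwa [one_smul] at h1)
  rw [Nat.card_congr (Equiv.subtypeEquivRight hiff), ← d.setup.pair,
    ← SimpleOdd.card_pair_eq (G := G) h2 d.setup.ne hcf]
  exact Nat.card_congr
    { toFun := fun x => ⟨w⁻¹ * x.1, Subgroup.mem_inf.2
        ⟨by rw [mem_stabilizer_iff, mul_smul, x.2.1, inv_smul_eq_iff, hwc],
         by rw [mem_stabilizer_iff, mul_smul, x.2.2, inv_smul_eq_iff, hwf]⟩⟩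
      invFun := fun y => ⟨w * y.1, by rw [mul_smul, mem_stabilizer_iff.1 y.2.1, hwc],
        by rw [mul_smul, mem_stabilizer_iff.1 y.2.2, hwf]⟩
      left_inv := fun x => Subtype.ext (mul_inv_cancel_left _ _)
      right_inv := fun y => Subtype.ext (inv_mul_cancel_left _ _) }

open Classical in
/-- Twice the number of elements with exactly two fixed points. -/
theorem two_mul_card_twoFix (d : Data U a b h e q) :
    2 * (Finset.univ.filter fun g : G => IsTwoFix Ω g).card + h * (h + 1) = Nat.card G := by
  have hZ := d.setup.zass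
  haveI := isPretransitive_of_is_two_pretransitive (h2 := hZ.2.1)
  have hn := SimpleOdd.three_le hZ
  let f : G → ℕ := fun g => (Finset.univ.filter fun x : Ω => g • x = x).card
  have hburn : ∑ g, f g = Nat.card G := by
    have h1 := MulAction.sum_card_fixedBy_eq_card_orbits_mul_card_group G Ω
    have h2 : Fintype.card (Quotient (orbitRel G Ω)) = 1 :=
      Fintype.card_eq_one_iff.2 ⟨Quotient.mk _ a, fun x => Quotient.inductionOn x fun y =>
        Quotient.sound (MulAction.exists_smul_eq G a y)⟩
    rw [h2, one_mul] at h1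
    rw [Nat.card_eq_fintype_card, ← h1]
    refine Finset.sum_congr rfl fun g _ => ?_
    show (Finset.univ.filter fun x : Ω => g • x = x).card = _
    rw [← Fintype.card_subtype]
    exact Fintype.card_congr (Equiv.refl _)
  have hterm : ∀ g : G, f g + (if f g = 0 then 1 else 0) =
      1 + (if IsTwoFix Ω g then 1 else 0) + if g = 1 then h else 0 := by
    intro g
    by_cases hg : g = 1
    · subst hg
      have : f 1 = h + 1 := by simp [f, d.setup.card]
      rw [this, if_neg (by omega), if_neg (fun h1 => h1.1 rfl), if_pos rfl]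
      omega
    have hle : f g ≤ 2 := by
      by_contra hlt
      obtain ⟨x, y, z, hx, hy, hz, hxy, hxz, hyz⟩ := Finset.two_lt_card_iff.1 (not_le.1 hlt)
      exact hg (hZ.2.2.1 g x y z hxy hyz hxz (Finset.mem_filter.1 hx).2 (Finset.mem_filter.1 hy).2
        (Finset.mem_filter.1 hz).2)
    have h2iff : IsTwoFix Ω g ↔ f g = 2 := by
      refine ⟨fun ⟨_, x, y, hxy, hx, hy⟩ => le_antisymm hle ?_, fun h1 => ?_⟩
      · exact Finset.one_lt_card.2 ⟨x, by simp [hx], y, by simp [hy], hxy⟩
      · obtain ⟨x, y, hxy, he'⟩ := Finset.card_eq_two.1 h1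
        have hmem : ∀ z ∈ ({x, y} : Finset Ω), g • z = z := fun z hz => by
          rw [← he'] at hz
          exact (Finset.mem_filter.1 hz).2
        exact ⟨hg, x, y, hxy, hmem x (by simp), hmem y (by simp)⟩
    rw [if_neg hg]
    simp only [h2iff]
    interval_cases f g <;> simp
  have hfree := SimpleOdd.two_mul_card_free hZ d.setup.ne
  have hfree' : Nat.card {g : G // ∀ c : Ω, g • c ≠ c} = ∑ g, if f g = 0 then 1 else 0 := by
    rw [Nat.card_eq_fintype_card, Fintype.card_subtype, Finset.sum_boole, Nat.cast_id]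
    congr 1
    ext g
    simp [f, Finset.filter_eq_empty_iff]
  have hsum := Finset.sum_congr rfl fun g (_ : g ∈ (Finset.univ : Finset G)) => hterm g
  rw [Finset.sum_add_distrib, Finset.sum_add_distrib, Finset.sum_add_distrib, hburn, ← hfree',
    Finset.sum_const, Finset.card_univ, ← Nat.card_eq_fintype_card, smul_eq_mul, mul_one,
    ← Finset.card_filter, Finset.sum_ite_eq', if_pos (Finset.mem_univ _)] at hsum
  rw [d.setup.card, Nat.add_sub_cancel, show h + 1 - 2 = h - 1 by omega] at hfree
  have hh : h * (h + 1) = h * (h - 1) + 2 * h := by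
    obtain ⟨j, rfl⟩ : ∃ j, h = j + 1 := ⟨h - 1, by have := d.setup.two_le_h; omega⟩
    simp only [Nat.add_sub_cancel]
    ring
  omega

open Classical in
theorem two_mul_card_realFree (d : Data U a b h e q) :
    2 * (Finset.univ.filter fun g : G => IsRealFree Ω g).card + h * (h - 1) ≤ Nat.card G := by
  have hfree := SimpleOdd.two_mul_card_free d.setup.zass d.setup.ne
  have h3 := d.setup.two_le_h
  rw [d.setup.card, Nat.add_sub_cancel, show h + 1 - 2 = h - 1 by omega] at hfree
  have hle : (Finset.univ.filter fun g : G => IsRealFree Ω g).card ≤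
      Nat.card {g : G // ∀ c : Ω, g • c ≠ c} := by
    rw [Nat.card_eq_fintype_card, Fintype.card_subtype]
    exact Finset.card_le_card fun g hg =>
      Finset.mem_filter.2 ⟨Finset.mem_univ _, (Finset.mem_filter.1 hg).2.1⟩
  omega

theorem card_group (d : Data U a b h e q) : Nat.card G = (h + 1) * (h * e) := by
  rw [SimpleOdd.card_group d.setup.zass.2.1 d.setup.ne, d.setup.card, d.setup.pair,
    Nat.add_sub_cancel]

open Classical in
/-- The counting identity. -/
theorem sum_centralizer (d : Data U a b h e q) :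
    2 * ∑ g ∈ (Finset.univ.filter fun g : G => IsRealFree Ω g),
      Nat.card (Subgroup.centralizer ({g} : Set G)) = Nat.card G * q := by
  let J := invols G
  let P := (J ×ˢ J).filter fun p => ¬ ∃ c : Ω, p.1 • c = c ∧ p.2 • c = c
  let T := Finset.univ.filter fun g : G => IsTwoFix Ω g
  let R := Finset.univ.filter fun g : G => IsRealFree Ω g
  have hdisj : Disjoint T R := Finset.disjoint_filter.2 fun g _ h1 h2 => by
    obtain ⟨-, c, f, -, hc, -⟩ := h1
    exact h2.1 c hc
  have hP : P.card = T.card * e + ∑ g ∈ R, Nat.card (Subgroup.centralizer ({g} : Set G)) := by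
    rw [Finset.card_eq_sum_card_fiberwise (f := fun p : G × G => p.1 * p.2) (t := T ∪ R) fun p hp => ?_,
      Finset.sum_union hdisj]
    · congr 1
      · rw [← smul_eq_mul, ← Finset.sum_const]
        refine Finset.sum_congr rfl fun g hg => ?_
        rw [d.card_pairs_product (Or.inl (Finset.mem_filter.1 hg).2),
          d.card_inverting_twoFix (Finset.mem_filter.1 hg).2]
      · refine Finset.sum_congr rfl fun g hg => ?_
        rw [d.card_pairs_product (Or.inr (Finset.mem_filter.1 hg).2),
          d.card_inverting (Finset.mem_filter.1 hg).2]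
    · simp only [P, J, Finset.coe_filter, Set.mem_setOf_eq, Finset.mem_product, mem_invols] at hp
      simp only [T, R, Finset.mem_coe, Finset.mem_union, Finset.mem_filter, Finset.mem_univ, true_and]
      exact d.pair_product hp.1.1 hp.1.2 hp.2
  have hsame : ((J ×ˢ J).filter fun p => ∃ c : Ω, p.1 • c = c ∧ p.2 • c = c).card = J.card * e := by
    rw [Finset.card_filter, Finset.sum_product, ← smul_eq_mul, ← Finset.sum_const]
    refine Finset.sum_congr rfl fun s hs => ?_
    rw [← Finset.card_filter]
    exact d.card_same_fix hs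
  have hsplit := Finset.card_filter_add_card_filter_not
    (s := J ×ˢ J) (fun p => ∃ c : Ω, p.1 • c = c ∧ p.2 • c = c)
  rw [hsame, Finset.card_product] at hsplit
  change J.card * e + P.card = _ at hsplit
  rw [hP, show J.card = e * (h + 1) from d.card_invols] at hsplit
  have hT : 2 * T.card + h * (h + 1) = Nat.card G := d.two_mul_card_twoFix
  rw [d.card_group] at hT ⊢
  have hq := d.q_eq
  subst hq
  nlinarith [congrArg (· * e) hT]

end Data

end Cfsg.Agent.Lib.Zassenhaus.TwoKernel
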