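import Mathlib
import Cfsg.Agent.Lib.Zassenhaus.TwoKernel.Count
import Cfsg.Agent.Lib.PF.Sec4.DiffFamily
import Cfsg.Agent.Lib.Coherence.Degree
import Cfsg.Agent.Lib.Chars.PermChar
import Cfsg.Agent.Lib.BrauerInd.PermChar
import Cfsg.Agent.Lib.TIFrob.Induced

/-!
The exceptional characters that belong to the characters of the point stabiliser trivial on the
centre of the kernel, when the kernel has order `q³`.
-/

set_option autoImplicit false
set_option maxHeartbeats 600000

namespace Cfsg.Agent.Lib.Zassenhaus.TwoKernel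

open MulAction Cfsg Cfsg.Agent.Lib
open scoped ComplexConjugate

/-- An irreducible character not trivial on a normal subgroup sums to zero on it. -/
theorem sum_normal_eq_zero {X : Type*} [Group X] [Fintype X] (Z : Subgroup X) [hZ : Z.Normal]
    [Fintype Z] (η : IrrCharacter X) {z0 : X} (hz0 : z0 ∈ Z)
    (hne : (η : X → ℂ) z0 ≠ (η : X → ℂ) 1) : ∑ z : Z, (η : X → ℂ) z = 0 := by
  obtain ⟨n, ρ, hρ, hη⟩ := η.2
  let T : Module.End ℂ (Fin n → ℂ) := ∑ z : Z, ρ (z : X)
  have hcomm : ∀ g : X, T ∘ₗ ρ g = ρ g ∘ₗ T := by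
    intro g
    simp only [T, ← Module.End.mul_eq_comp, Finset.sum_mul, Finset.mul_sum, ← map_mul]
    refine Fintype.sum_equiv (MulAut.conjNormal g⁻¹ : Z ≃* Z).toEquiv _ _ fun z => ?_
    congr 1
    simp [MulAut.conjNormal_apply, mul_assoc]
  obtain ⟨c, hc⟩ := Chars.exists_scalar_of_commute ρ T hcomm
  have hfix : T * ρ z0 = T := by
    simp only [T, Finset.sum_mul, ← map_mul]
    exact Fintype.sum_equiv (Equiv.mulRight (⟨z0, hz0⟩ : Z)) _ _ fun z => rfl
  have htr : ∑ z : Z, (η : X → ℂ) z = LinearMap.trace ℂ (Fin n → ℂ) T := by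
    rw [map_sum]
    refine Finset.sum_congr rfl fun z _ => ?_
    rw [← hη]
    rfl
  rw [htr, hc]
  rcases eq_or_ne c 0 with rfl | hc0
  · rw [zero_smul, map_zero]
  · refine absurd ?_ hne
    rw [hc, smul_mul_assoc, one_mul] at hfix
    rw [← hη]
    exact (Chars.rep_eq_one_iff ρ z0).1 (smul_right_injective _ hc0 hfix)

variable {G Ω : Type*} [Group G] [Fintype G] [MulAction G Ω] [Fintype Ω]
  {U : Subgroup G} {a b : Ω} {h e q : ℕ}

theorem indFun_one_eq_permChar (h2 : IsMultiplyPretransitive G Ω 2) (a : Ω) :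
    indFun (stabilizer G a) (fun _ => (1 : ℂ)) = Chars.permChar (G := G) Ω := by
  haveI := isPretransitive_of_is_two_pretransitive (h2 := h2)
  funext g
  rw [BrauerInd.indFun_one_apply, Chars.permChar]
  congr 1
  refine Nat.card_eq_of_bijective
    (fun p => (⟨ofQuotientStabilizer G a p.1, ?_⟩ : fixedBy Ω g)) ⟨?_, ?_⟩
  · change g • ofQuotientStabilizer G a p.1 = _
    rw [← ofQuotientStabilizer_smul, show g • p.1 = p.1 from p.2]
  · exact fun p p' e' => Subtype.ext
      (injective_ofQuotientStabilizer G a (congrArg Subtype.val e'))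
  · rintro ⟨x, hx⟩
    obtain ⟨m, rfl⟩ := MulAction.exists_smul_eq G a x
    refine ⟨⟨(m : G ⧸ stabilizer G a), ?_⟩, Subtype.ext rfl⟩
    apply injective_ofQuotientStabilizer G a
    rw [ofQuotientStabilizer_smul, ofQuotientStabilizer_mk]
    exact hx

namespace Data

/-- The involutions of the kernel with the identity, inside the normaliser. -/
def zed (d : Data U a b h e q) : Subgroup ↥(Subgroup.normalizer (U : Set G)) where
  carrier := {x | (x : G) ∈ U ∧ (x : G) * x = 1}
  one_mem' := ⟨one_mem U, by simp⟩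
  mul_mem' := fun {x y} hx hy => ⟨mul_mem hx.1 hy.1, by
    have h1 := d.central _ hy.1 hy.2 x hx.1
    calc ((x * y : ↥(Subgroup.normalizer (U : Set G))) : G) * (x * y : ↥(Subgroup.normalizer (U : Set G)))
        = (x : G) * ((y : G) * x) * y := by simp [mul_assoc]
      _ = (x : G) * x * ((y : G) * y) := by rw [h1]; simp [mul_assoc]
      _ = 1 := by rw [hx.2, hy.2, one_mul]⟩
  inv_mem' := fun {x} hx => ⟨inv_mem hx.1, by
    rw [Subgroup.coe_inv, ← mul_inv_rev, hx.2, inv_one]⟩

theorem mem_zed (d : Data U a b h e q) {x : ↥(Subgroup.normalizer (U : Set G))} :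
    x ∈ d.zed ↔ (x : G) ∈ U ∧ (x : G) * x = 1 := Iff.rfl

theorem zed_normal (d : Data U a b h e q) : d.zed.Normal := ⟨fun x hx g => by
  refine ⟨(Subgroup.mem_normalizer_iff.1 g.2 x).1 hx.1, ?_⟩
  calc ((g * x * g⁻¹ : ↥(Subgroup.normalizer (U : Set G))) : G) *
      (g * x * g⁻¹ : ↥(Subgroup.normalizer (U : Set G)))
      = (g : G) * ((x : G) * x) * (g : G)⁻¹ := by simp [mul_assoc]
    _ = 1 := by rw [hx.2]; simp⟩

theorem card_zed (d : Data U a b h e q) : Nat.card d.zed = q := by
  refine Eq.trans ?_ d.cardZ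
  obtain ⟨k, hk⟩ := SuzukiTwo.exists_regGen d.suzuki
  refine (Nat.card_eq_of_bijective (fun z : Subgroup.center U =>
    (⟨⟨((z : U) : G), Subgroup.le_normalizer (z : U).2⟩, (z : U).2,
      congrArg Subtype.val (SuzukiTwo.center_elementary d.suzuki _ z.2)⟩ : d.zed)) ⟨?_, ?_⟩).symm
  · intro z z' e'
    exact Subtype.ext (Subtype.ext (congrArg (fun w : d.zed => ((w : ↥(Subgroup.normalizer (U : Set G))) : G)) e'))
  · rintro ⟨⟨x, hxN⟩, hx, hxx⟩
    exact ⟨⟨⟨x, hx⟩, SuzukiTwo.involution_central hk d.two (Subtype.ext hxx)⟩, rfl⟩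

variable [Fintype ↥(Subgroup.normalizer (U : Set G))]

/-- A character trivial on `zed` and not on the kernel has degree `e`. -/
theorem degree_of_trivial_zed (d : Data U a b h e q)
    (θ : IrrCharacter ↥(Subgroup.normalizer (U : Set G)))
    (hθ : TIFrob.Relevant (U.subgroupOf (Subgroup.normalizer (U : Set G)))
      (θ : ↥(Subgroup.normalizer (U : Set G)) → ℂ))
    (htriv : ∀ z ∈ d.zed, (θ : ↥(Subgroup.normalizer (U : Set G)) → ℂ) z =
      (θ : ↥(Subgroup.normalizer (U : Set G)) → ℂ) 1) :
    (θ : ↥(Subgroup.normalizer (U : Set G)) → ℂ) 1 = e := by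
  classical
  haveI : (U.subgroupOf (Subgroup.normalizer (U : Set G))).Normal := Subgroup.normal_in_normalizer
  set K := U.subgroupOf (Subgroup.normalizer (U : Set G)) with hK
  haveI : Fintype K := Fintype.ofFinite K
  have hC' := TIFrob.centralizer_le_subgroupOf U d.setup.centralizer_le
  obtain ⟨lam, -, hlam⟩ := TIFrob.exists_eq_indFun hC' θ hθ
  have hne : classInner (fun c : K => (θ : ↥(Subgroup.normalizer (U : Set G)) → ℂ) c) (lam : K → ℂ) ≠ 0 := by
    rw [← Chars.classInner_indFun_right K _ _ (Chars.irr_isClassFunction θ), ← hlam,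
      Chars.classInner_irr_self]
    exact one_ne_zero
  haveI := d.zed_normal
  haveI : (d.zed.subgroupOf K).Normal := inferInstance
  obtain ⟨ψ, hψ⟩ := Chars.exists_irr_quotient (d.zed.subgroupOf K) lam fun x hx =>
    Coherence.constituent_kernel θ lam hne x (htriv _ (Subgroup.mem_subgroupOf.1 hx))
  haveI : IsMulCommutative (K ⧸ d.zed.subgroupOf K) := ⟨⟨fun p p' => by
    obtain ⟨x, rfl⟩ := QuotientGroup.mk_surjective p
    obtain ⟨y, rfl⟩ := QuotientGroup.mk_surjective p'
    have h1 : x * y * x⁻¹ * y⁻¹ ∈ d.zed.subgroupOf K := by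
      have hx : ((x : ↥(Subgroup.normalizer (U : Set G))) : G) ∈ U := x.2
      have hy : ((y : ↥(Subgroup.normalizer (U : Set G))) : G) ∈ U := y.2
      refine ⟨mul_mem (mul_mem (mul_mem hx hy) (inv_mem hx)) (inv_mem hy), ?_⟩
      exact d.comm _ hx _ hy
    rw [← QuotientGroup.eq_one_iff, QuotientGroup.mk_mul, QuotientGroup.mk_mul, QuotientGroup.mk_mul,
      QuotientGroup.mk_inv, QuotientGroup.mk_inv, mul_inv_eq_one, mul_inv_eq_iff_eq_mul] at h1
    exact h1⟩⟩
  rw [hlam, Chars.indFun_one_eq, d.setup.index_kerIn, ← hψ 1, QuotientGroup.mk_one,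
    Chars.irr_apply_one_of_comm ψ, mul_one]

open Classical in
/-- The relevant characters trivial on `zed`. -/
noncomputable def smallChars (d : Data U a b h e q) :
    Finset (IrrCharacter ↥(Subgroup.normalizer (U : Set G))) :=
  Finset.univ.filter fun θ =>
    TIFrob.Relevant (U.subgroupOf (Subgroup.normalizer (U : Set G)))
      (θ : ↥(Subgroup.normalizer (U : Set G)) → ℂ) ∧
    ∀ z ∈ d.zed, (θ : ↥(Subgroup.normalizer (U : Set G)) → ℂ) z =
      (θ : ↥(Subgroup.normalizer (U : Set G)) → ℂ) 1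

theorem mem_smallChars (d : Data U a b h e q)
    {θ : IrrCharacter ↥(Subgroup.normalizer (U : Set G))} : θ ∈ d.smallChars ↔
      TIFrob.Relevant (U.subgroupOf (Subgroup.normalizer (U : Set G)))
        (θ : ↥(Subgroup.normalizer (U : Set G)) → ℂ) ∧
      ∀ z ∈ d.zed, (θ : ↥(Subgroup.normalizer (U : Set G)) → ℂ) z =
        (θ : ↥(Subgroup.normalizer (U : Set G)) → ℂ) 1 := by
  simp [smallChars]

theorem card_smallChars (d : Data U a b h e q) (hh : h = q ^ 3) :
    d.smallChars.card = q + 1 := by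
  classical
  haveI := d.zed_normal
  haveI : (U.subgroupOf (Subgroup.normalizer (U : Set G))).Normal := Subgroup.normal_in_normalizer
  set K := U.subgroupOf (Subgroup.normalizer (U : Set G)) with hK
  have hC' := TIFrob.centralizer_le_subgroupOf U d.setup.centralizer_le
  have hidx : d.zed.index = q ^ 2 * e := by
    have h1 := d.zed.card_mul_index
    rw [d.card_zed, d.setup.card_normalizer] at h1
    refine Nat.eq_of_mul_eq_mul_left (by have := d.q_eq; omega : 0 < q) (h1.trans ?_)
    rw [hh]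
    ring
  have hsum := Coherence.sum_degree_sq_kernel d.zed
  rw [hidx, ← Finset.sum_filter_add_sum_filter_not _
      (fun θ : IrrCharacter ↥(Subgroup.normalizer (U : Set G)) =>
        TIFrob.Relevant K (θ : ↥(Subgroup.normalizer (U : Set G)) → ℂ))] at hsum
  rw [Finset.filter_filter, Finset.filter_filter] at hsum
  have hrest : ∑ θ ∈ Finset.univ.filter (fun θ : IrrCharacter ↥(Subgroup.normalizer (U : Set G)) =>
      (∀ x ∈ d.zed, (θ : ↥(Subgroup.normalizer (U : Set G)) → ℂ) x =
        (θ : ↥(Subgroup.normalizer (U : Set G)) → ℂ) 1) ∧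
      ¬ TIFrob.Relevant K (θ : ↥(Subgroup.normalizer (U : Set G)) → ℂ)),
      (θ : ↥(Subgroup.normalizer (U : Set G)) → ℂ) 1 ^ 2 = (e : ℂ) := by
    refine Eq.trans ?_ (congrArg Nat.cast d.setup.index_kerIn)
    rw [← TIFrob.sum_not_relevant hC']
    refine Finset.sum_congr ?_ fun θ _ => pow_two _
    ext θ
    simp only [Finset.mem_filter, Finset.mem_univ, true_and]
    exact ⟨fun hθ => hθ.2, fun hθ => ⟨fun x hx =>
      TIFrob.not_relevant hθ (Subgroup.mem_subgroupOf.2 hx.1), hθ⟩⟩
  have hmain : ∑ θ ∈ Finset.univ.filter (fun θ : IrrCharacter ↥(Subgroup.normalizer (U : Set G)) =>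
      (∀ x ∈ d.zed, (θ : ↥(Subgroup.normalizer (U : Set G)) → ℂ) x =
        (θ : ↥(Subgroup.normalizer (U : Set G)) → ℂ) 1) ∧
      TIFrob.Relevant K (θ : ↥(Subgroup.normalizer (U : Set G)) → ℂ)),
      (θ : ↥(Subgroup.normalizer (U : Set G)) → ℂ) 1 ^ 2 = (d.smallChars.card : ℂ) * (e : ℂ) ^ 2 := by
    have hset : Finset.univ.filter (fun θ : IrrCharacter ↥(Subgroup.normalizer (U : Set G)) =>
        (∀ x ∈ d.zed, (θ : ↥(Subgroup.normalizer (U : Set G)) → ℂ) x =
          (θ : ↥(Subgroup.normalizer (U : Set G)) → ℂ) 1) ∧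
        TIFrob.Relevant K (θ : ↥(Subgroup.normalizer (U : Set G)) → ℂ)) = d.smallChars := by
      ext θ
      simp only [Finset.mem_filter, Finset.mem_univ, true_and, mem_smallChars, hK, and_comm]
    rw [hset, Finset.sum_congr rfl fun θ hθ => by
      rw [d.degree_of_trivial_zed θ (d.mem_smallChars.1 hθ).1 (d.mem_smallChars.1 hθ).2],
      Finset.sum_const, nsmul_eq_mul]
  rw [hmain, hrest] at hsum
  have h1 : d.smallChars.card * e ^ 2 + e = q ^ 2 * e := by exact_mod_cast hsum
  have h2 := d.q_eq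
  have h3 := d.three_le
  subst h2
  have h4 : (d.smallChars.card * e + 1) * e = (e + 1) ^ 2 * e := by linarith
  have h5 := Nat.eq_of_mul_eq_mul_right (by omega) h4
  refine Nat.eq_of_mul_eq_mul_right (by omega : 0 < e) ?_
  nlinarith

/-- The relevant characters sum to zero on `zed` unless they are trivial on it. -/
theorem sum_zed_eq_zero (d : Data U a b h e q) [Fintype d.zed]
    (η : IrrCharacter ↥(Subgroup.normalizer (U : Set G)))
    (hη : TIFrob.Relevant (U.subgroupOf (Subgroup.normalizer (U : Set G)))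
      (η : ↥(Subgroup.normalizer (U : Set G)) → ℂ)) (hns : η ∉ d.smallChars) :
    ∑ z : d.zed, (η : ↥(Subgroup.normalizer (U : Set G)) → ℂ) z = 0 := by
  obtain ⟨z0, hz0, hne⟩ : ∃ z0 ∈ d.zed, (η : ↥(Subgroup.normalizer (U : Set G)) → ℂ) z0 ≠
      (η : ↥(Subgroup.normalizer (U : Set G)) → ℂ) 1 := by
    by_contra hno
    push Not at hno
    exact hns (d.mem_smallChars.2 ⟨hη, hno⟩)
  haveI := d.zed_normal
  exact sum_normal_eq_zero d.zed η hz0 hne

open Classical in
/-- The exceptional characters. -/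
theorem exists_exceptional [IsSimpleGroup G] (d : Data U a b h e q) (hh : h = q ^ 3) :
    ∃ (S : Finset (IrrCharacter G)) (v : ℤ),
      S.card = q + 1 ∧
      (∀ χ ∈ S, classInner (Chars.permChar (G := G) Ω) (χ : G → ℂ) = 0) ∧
      (∀ χ ∈ S, (χ : G → ℂ) 1 = (e : ℂ) * ((q : ℂ) - v)) ∧
      (∀ χ ∈ S, ∀ t : G, orderOf t = 2 → (χ : G → ℂ) t = v) ∧
      (∀ χ ∈ S, ∀ g : G, IsTwoFix Ω g → (χ : G → ℂ) g = 0) ∧
      (∀ χ ∈ S, ∀ χ' ∈ S, ∀ g : G, (∀ c : Ω, g • c ≠ c) → (χ : G → ℂ) g = (χ' : G → ℂ) g) := by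
  classical
  have s := d.setup
  haveI : (U.subgroupOf (Subgroup.normalizer (U : Set G))).Normal := Subgroup.normal_in_normalizer
  haveI := d.zed_normal
  haveI := isPretransitive_of_is_two_pretransitive (h2 := s.zass.2.1)
  haveI : Nontrivial Ω := ⟨⟨a, b, s.ne⟩⟩
  set N := Subgroup.normalizer (U : Set G) with hN
  set K := U.subgroupOf N with hK
  have hC' : ∀ k ∈ K, k ≠ 1 → Subgroup.centralizer ({k} : Set N) ≤ K :=
    TIFrob.centralizer_le_subgroupOf U s.centralizer_le
  have hC := s.centralizer_le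
  have hTI := s.tiSubgroup
  have hlt := s.lt_normalizer
  have hq4 : 4 ≤ q := by have := d.q_eq; have := d.three_le; omega
  have hcard : d.smallChars.card = q + 1 := d.card_smallChars hh
  obtain ⟨o, ho⟩ : d.smallChars.Nonempty := Finset.card_pos.1 (by omega)
  let ι := {θ // θ ∈ d.smallChars}
  let o' : ι := ⟨o, ho⟩
  have hrel : ∀ i : ι, TIFrob.Relevant K (i.1 : N → ℂ) := fun i => (d.mem_smallChars.1 i.2).1
  have hdeg : ∀ i : ι, (i.1 : N → ℂ) 1 = e := fun i =>
    d.degree_of_trivial_zed i.1 (hrel i) (d.mem_smallChars.1 i.2).2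
  have hz : ∀ i : ι, ∀ z ∈ d.zed, (i.1 : N → ℂ) z = e := fun i z hz =>
    ((d.mem_smallChars.1 i.2).2 z hz).trans (hdeg i)
  have hvan : ∀ i : ι, ∀ x : N, (x : G) ∉ U → (i.1 : N → ℂ) x = 0 := fun i x hx =>
    TIFrob.apply_eq_zero hC' i.1 (hrel i) fun h1 => hx (Subgroup.mem_subgroupOf.1 h1)
  let β : ι → N → ℂ := fun i => (i.1 : N → ℂ) - (o'.1 : N → ℂ)
  have hβc : ∀ i, IsClassFunction N (β i) := fun i =>
    Chars.isClassFunction_sub (Chars.irr_isClassFunction _) (Chars.irr_isClassFunction _)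
  have hβK : ∀ i, ∀ x : N, (x : G) ∉ U → β i x = 0 := fun i x hx => by
    simp only [β, Pi.sub_apply, hvan i x hx, hvan o' x hx, sub_zero]
  have hβ1 : ∀ i, β i 1 = 0 := fun i => by simp only [β, Pi.sub_apply, hdeg, sub_self]
  have hres : ∀ i, ∀ x : N, indFun N (β i) x = β i x := fun i =>
    (Cfsg.Agent.S0850.result U hTI hlt hC).2 (β i) (hβc i) (hβK i) (hβ1 i)
  have hiso : ∀ (α : N → ℂ) i, classInner (indFun N α) (indFun N (β i)) = classInner α (β i) :=
    fun α i => TIFrob.classInner_indFun_indFun U hTI hlt hC (hβc i) (hβK i) (hβ1 i)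
  have hinner : ∀ i j : ι, classInner (i.1 : N → ℂ) (j.1 : N → ℂ) = if i = j then 1 else 0 := by
    intro i j
    split_ifs with h1
    · rw [h1]; exact Chars.classInner_irr_self _
    · exact Chars.classInner_irr_of_ne fun e' => h1 (Subtype.ext e')
  obtain ⟨f, sgn, hsgn, hfinj, hf⟩ := PF.Sec4.exists_diff_family o' (fun i => indFun N (β i))
    (by simp only [β, sub_self]; exact Chars.indFun_zero (H := N))
    (fun i _ => by
      simp only [β, Chars.indFun_sub]
      exact Chars.isGeneralizedCharacter_sub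
        (Chars.isGeneralizedCharacter_of_isCharacter (Chars.isCharacter_indFun _ (Chars.irr_isCharacter _)))
        (Chars.isGeneralizedCharacter_of_isCharacter (Chars.isCharacter_indFun _ (Chars.irr_isCharacter _))))
    (fun i _ => by simp only [Chars.indFun_one_eq, hβ1, mul_zero])
    (fun i hi => by
      rw [hiso]
      simp only [β, Chars.classInner_sub_left, Chars.classInner_sub_right, hinner, if_pos rfl,
        if_neg hi, if_neg (Ne.symm hi)]
      norm_num)
    (fun i j hi hj hij => by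
      rw [hiso]
      simp only [β, Chars.classInner_sub_left, Chars.classInner_sub_right, hinner, if_pos rfl,
        if_neg hi, if_neg hij, if_neg (Ne.symm hj)]
      norm_num)
  have hs2 : sgn * sgn = 1 := by rcases hsgn with rfl | rfl <;> norm_num
  have hs0 : sgn ≠ 0 := fun h0 => by rw [h0] at hs2; simp at hs2
  have hdiff : ∀ i, ∀ g : G, (f i : G → ℂ) g - (f o' : G → ℂ) g = sgn * indFun N (β i) g := by
    intro i g
    rw [congrFun (hf i) g, Pi.smul_apply, Pi.sub_apply, smul_eq_mul, ← mul_assoc, hs2, one_mul]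
  -- the characters agree away from the elements of order four of the conjugates of the kernel
  have hagree : ∀ i, ∀ g : G, (∀ m : G, m⁻¹ * g * m ∈ U → (m⁻¹ * g * m) * (m⁻¹ * g * m) = 1) →
      (f i : G → ℂ) g = (f o' : G → ℂ) g := by
    intro i g hg
    rw [← sub_eq_zero, hdiff i g, indFun, Finset.sum_eq_zero, mul_zero, mul_zero]
    intro m _
    by_cases hm : m⁻¹ * g * m ∈ N
    · rw [Chars.extendByZero_of_mem _ hm]
      by_cases hmU : m⁻¹ * g * m ∈ U
      · have hzz : (⟨_, hm⟩ : N) ∈ d.zed := ⟨hmU, hg m hmU⟩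
        simp only [β, Pi.sub_apply, hz i _ hzz, hz o' _ hzz, sub_self]
      · exact hβK i _ hmU
    · exact Chars.extendByZero_of_not_mem _ hm
  have hone : ∀ i, (f i : G → ℂ) 1 = (f o' : G → ℂ) 1 := fun i =>
    hagree i 1 fun m _ => by group
  -- no constituent of the permutation character
  have hperm : indFun N (fun _ => (1 : ℂ)) = Chars.permChar (G := G) Ω := by
    rw [Coherent.indFun_congr s.normalizer_eq, indFun_one_eq_permChar s.zass.2.1 a]
  have hΓ : IsIrrCharacter G (fun g => Chars.permChar (G := G) Ω g - 1) :=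
    (Chars.isIrrCharacter_permChar_sub_one_iff Ω).2 s.zass.2.1
  have hsplit : Chars.permChar (G := G) Ω =
      (Chars.trivialIrr G : G → ℂ) + ((⟨_, hΓ⟩ : IrrCharacter G) : G → ℂ) := by
    funext g
    simp [Chars.trivialIrr]
  have hceq : ∀ i, classInner (Chars.permChar (G := G) Ω) (f i : G → ℂ) =
      classInner (Chars.permChar (G := G) Ω) (f o' : G → ℂ) := by
    intro i
    have h1 : classInner (indFun N fun _ => (1 : ℂ)) (indFun N (β i)) = 0 := by
      rw [hiso]
      simp only [β, Chars.classInner_sub_right]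
      have h2 : ∀ j : ι, classInner (fun _ => (1 : ℂ)) (j.1 : N → ℂ) = 0 := fun j =>
        Chars.classInner_irr_of_ne (χ := Chars.trivialIrr N) fun e' => by
          obtain ⟨k, -, hk⟩ := hrel j
          exact hk (by rw [← e']; simp [Chars.trivialIrr])
      rw [h2, h2, sub_self]
    rw [hperm, hf i, Chars.classInner_smul_right, Chars.classInner_sub_right, mul_eq_zero] at h1
    rcases h1 with h1 | h1
    · exact absurd h1 (by simpa using hs0)
    · exact sub_eq_zero.1 h1
  have hnoperm : ∀ i, classInner (Chars.permChar (G := G) Ω) (f i : G → ℂ) = 0 := by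
    intro i
    by_contra hne
    have hmem : ∀ j, f j = Chars.trivialIrr G ∨ f j = ⟨_, hΓ⟩ := by
      intro j
      by_contra hno
      push Not at hno
      refine hne ?_
      rw [hceq i, ← hceq j, hsplit, Chars.classInner_add_left,
        Chars.classInner_irr_of_ne hno.1.symm, Chars.classInner_irr_of_ne hno.2.symm, add_zero]
    have h2 : (Finset.univ.image f).card ≤ 2 :=
      (Finset.card_le_card (t := {Chars.trivialIrr G, ⟨_, hΓ⟩}) fun x hx => by
        obtain ⟨j, -, rfl⟩ := Finset.mem_image.1 hx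
        simpa using hmem j).trans Finset.card_le_two
    rw [Finset.card_image_of_injective _ hfinj, Finset.card_univ, Fintype.card_coe, hcard] at h2
    omega
  -- sums over the kernel
  have hKsum : ∀ i, ∑ k : K, (f i : G → ℂ) ((k : N) : G) = 0 := by
    intro i
    by_contra hne
    have hall : ∀ j, ∑ k : K, (f j : G → ℂ) ((k : N) : G) =
        ∑ k : K, (f o' : G → ℂ) ((k : N) : G) := by
      intro j
      rw [← sub_eq_zero, ← Finset.sum_sub_distrib]
      simp only [hdiff, hres, β, Pi.sub_apply, ← Finset.mul_sum, Finset.sum_sub_distrib,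
        TIFrob.sum_kernel_eq_zero hC' _ (hrel _), sub_zero, mul_zero]
    have hone' : ∀ j, ∀ u ∈ U, u ≠ 1 → (f j : G → ℂ) u = 1 := fun j =>
      (s.dichotomy (f j) (fun h0 => hne ((hall i).trans ((hall j).symm.trans h0)))).resolve_right (by
        rw [not_not, hperm]; exact hnoperm j)
    obtain ⟨j, hj⟩ := Fintype.exists_ne_of_one_lt_card
      (by rw [Fintype.card_coe, hcard]; omega : 1 < Fintype.card ι) o'
    refine hj (hfinj (Subtype.ext (funext fun g => ?_)))
    by_cases hg : ∃ m : G, m⁻¹ * g * m ∈ U ∧ (m⁻¹ * g * m) * (m⁻¹ * g * m) ≠ 1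
    · obtain ⟨m, hm, hm1⟩ := hg
      have hne1 : m⁻¹ * g * m ≠ 1 := fun e' => hm1 (by rw [e', one_mul])
      have hconj : IsConj (m⁻¹ * g * m) g := isConj_iff.2 ⟨m, by group⟩
      have e1 : ∀ j, (f j : G → ℂ) g = 1 := fun j => by
        rw [← hone' j _ hm hne1]
        obtain ⟨c, hc⟩ := isConj_iff.1 hconj
        conv_lhs => rw [← hc]
        exact Chars.irr_isClassFunction (f j) _ c
      rw [e1, e1]
    · push Not at hg
      exact hagree j g hg
  -- restriction to the normaliser
  have hrestr : ∀ i, IsCharacter N (fun x : N => (f i : G → ℂ) x) := fun i =>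
    Chars.isCharacter_restrict _ (Chars.irr_isCharacter (f i))
  choose c hc using fun (i : ι) (η : IrrCharacter N) =>
    Chars.isCharacter_classInner_nat (hrestr i) (Chars.irr_isCharacter η)
  have hdec : ∀ i, ∀ x : N, (f i : G → ℂ) x = ∑ η : IrrCharacter N, (c i η : ℂ) * (η : N → ℂ) x := by
    intro i x
    have h1 := congrFun (Chars.isCharacter_eq_sum_classInner (hrestr i)) x
    simp only [Finset.sum_apply, Pi.smul_apply, smul_eq_mul, hc] at h1
    exact h1
  have hczero : ∀ i (η : IrrCharacter N), ¬ TIFrob.Relevant K (η : N → ℂ) → c i η = 0 := by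
    intro i η hη
    have h1 := hKsum i
    simp only [hdec] at h1
    rw [Finset.sum_comm] at h1
    simp only [← Finset.mul_sum] at h1
    rw [← Finset.sum_filter_add_sum_filter_not Finset.univ
      (fun η : IrrCharacter N => TIFrob.Relevant K (η : N → ℂ)),
      Finset.sum_eq_zero (fun η' hη' => by
        rw [TIFrob.sum_kernel_eq_zero hC' η' (Finset.mem_filter.1 hη').2, mul_zero]), zero_add,
      Finset.sum_congr rfl (g := fun η' : IrrCharacter N => (((c i η' * h : ℕ)) : ℂ)) (fun η' hη' => by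
        rw [Finset.sum_congr rfl fun (k : K) _ => TIFrob.not_relevant (Finset.mem_filter.1 hη').2 k.2,
          Finset.sum_const, Finset.card_univ, Fintype.card_eq_nat_card, s.card_kerIn,
          s.linear_of_not_relevant η' (Finset.mem_filter.1 hη').2, nsmul_eq_mul, mul_one,
          Nat.cast_mul]), ← Nat.cast_sum, Nat.cast_eq_zero, Finset.sum_eq_zero_iff] at h1
    have h2 := h1 η (Finset.mem_filter.2 ⟨Finset.mem_univ _, hη⟩)
    rcases mul_eq_zero.1 h2 with h3 | h3
    · exact h3
    · have := s.two_le_h; omega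
  have htwofix : ∀ i, ∀ g : G, IsTwoFix Ω g → (f i : G → ℂ) g = 0 := by
    intro i g ⟨hg1, x, y, hxy, hx, hy⟩
    obtain ⟨m, hm1, hm2⟩ := is_two_pretransitive_iff.1 s.zass.2.1 hxy s.ne
    have hga : (m * g * m⁻¹) • a = a := by
      rw [mul_smul, mul_smul, inv_smul_eq_iff.2 hm1.symm, hx, hm1]
    have hgb : (m * g * m⁻¹) • b = b := by
      rw [mul_smul, mul_smul, inv_smul_eq_iff.2 hm2.symm, hy, hm2]
    have hgN : m * g * m⁻¹ ∈ N := s.normalizer_eq.ge (mem_stabilizer_iff.2 hga)
    have hgU : m * g * m⁻¹ ∉ U := fun hu =>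
      s.ne.symm (s.fix _ hu (fun e' => hg1 (conj_eq_one_iff.1 e')) b hgb)
    rw [← Chars.irr_isClassFunction (f i) g m]
    refine (hdec i ⟨_, hgN⟩).trans (Finset.sum_eq_zero fun η _ => ?_)
    by_cases hη : TIFrob.Relevant K (η : N → ℂ)
    · rw [TIFrob.apply_eq_zero hC' η hη fun h1 => hgU (Subgroup.mem_subgroupOf.1 h1), mul_zero]
    · rw [hczero i η hη, Nat.cast_zero, zero_mul]
  -- the value on the involutions
  obtain ⟨⟨t0, ht0U⟩, ht0⟩ : ∃ t : U, orderOf t = 2 := by
    obtain ⟨x, y, -, hx1, hxx, -⟩ := d.suzuki.2.2.2.1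
    exact ⟨x, orderOf_eq_prime (by rw [pow_two, hxx]) hx1⟩
  rw [Subgroup.orderOf_mk] at ht0
  have hinvval : ∀ i, ∀ t : G, orderOf t = 2 → (f i : G → ℂ) t = (f o' : G → ℂ) t0 := by
    intro i t ht
    obtain ⟨m, hm⟩ := isConj_iff.1 (SimpleOdd.involutions_conj s.zass d.inv s.ne d.hodd t t0 ht ht0)
    rw [← hagree i t0 ?_, ← hm]
    · exact (Chars.irr_isClassFunction (f i) t m).symm
    · intro n _
      have h2 : t0 * t0 = 1 := by rw [← pow_two, ← ht0, pow_orderOf_eq_one]
      calc n⁻¹ * t0 * n * (n⁻¹ * t0 * n) = n⁻¹ * (t0 * t0) * n := by group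
        _ = 1 := by rw [h2]; group
  haveI : Fintype d.zed := Fintype.ofFinite _
  have hZsum : ∀ i, (f o' : G → ℂ) 1 + (e : ℂ) * (f o' : G → ℂ) t0 =
      (q : ℂ) * e * ((∑ j : ι, c i j.1 : ℕ) : ℂ) := by
    intro i
    have hL : ∑ z : d.zed, (f i : G → ℂ) ((z : N) : G) =
        (f o' : G → ℂ) 1 + (e : ℂ) * (f o' : G → ℂ) t0 := by
      rw [Fintype.sum_eq_add_sum_compl (1 : d.zed)]
      congr 1
      · exact hone i
      · rw [Finset.sum_congr rfl (g := fun _ => (f o' : G → ℂ) t0) fun z hz' => ?_, Finset.sum_const,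
          Finset.card_compl, Finset.card_singleton, Fintype.card_eq_nat_card, d.card_zed,
          nsmul_eq_mul, show q - 1 = e by rw [d.q_eq, Nat.add_sub_cancel]]
        refine hinvval i _ (orderOf_eq_prime (by rw [pow_two]; exact z.2.2) fun e' => ?_)
        rw [Finset.mem_compl, Finset.mem_singleton] at hz'
        exact hz' (Subtype.ext (Subtype.ext e'))
    rw [← hL]
    simp only [hdec]
    rw [Finset.sum_comm]
    simp only [← Finset.mul_sum]
    rw [← Finset.sum_subset (Finset.subset_univ d.smallChars) fun η _ hη => ?_]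
    · rw [Nat.cast_sum, Finset.mul_sum, ← Finset.sum_coe_sort]
      refine Finset.sum_congr rfl fun j _ => ?_
      rw [Finset.sum_congr rfl (fun (z : d.zed) _ => hz j _ z.2), Finset.sum_const, Finset.card_univ,
        Fintype.card_eq_nat_card, d.card_zed, nsmul_eq_mul]
      ring
    · by_cases hr : TIFrob.Relevant K (η : N → ℂ)
      · rw [d.sum_zed_eq_zero η hr hη, mul_zero]
      · rw [hczero i η hr, Nat.cast_zero, zero_mul]
  -- multiplicities
  have hcd : ∀ i j : ι, (c i j.1 : ℂ) - c i o'.1 =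
      sgn * ((if i = j then 1 else 0) - if i = o' then 1 else 0) := by
    intro i j
    have h1 : classInner (f i : G → ℂ) (indFun N (β j)) = (c i j.1 : ℂ) - c i o'.1 := by
      rw [Chars.classInner_indFun_right N _ _ (Chars.irr_isClassFunction _)]
      simp only [β, Chars.classInner_sub_right, hc]
    rw [← h1, hf j, Chars.classInner_smul_right, Chars.classInner_sub_right]
    have hcs : conj sgn = sgn := by rcases hsgn with rfl | rfl <;> simp
    have hff : ∀ k : ι, classInner (f i : G → ℂ) (f k : G → ℂ) = if i = k then 1 else 0 := by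
      intro k
      split_ifs with h2
      · rw [h2]; exact Chars.classInner_irr_self _
      · exact Chars.classInner_irr_of_ne fun e' => h2 (hfinj e')
    rw [hff, hff, hcs]
  have hτ : ∀ i, ∑ j : ι, c i j.1 = ∑ j : ι, c o' j.1 := by
    intro i
    have h1 := (hZsum i).symm.trans (hZsum o')
    have hne : (q : ℂ) * e ≠ 0 := by
      have := d.three_le
      exact mul_ne_zero (Nat.cast_ne_zero.2 (by omega)) (Nat.cast_ne_zero.2 (by omega))
    exact_mod_cast mul_left_cancel₀ hne h1
  obtain ⟨σ, hσ, hσ'⟩ : ∃ σ : ℤ, (σ = 1 ∨ σ = -1) ∧ sgn = σ := by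
    rcases hsgn with rfl | rfl
    exacts [⟨1, Or.inl rfl, by simp⟩, ⟨-1, Or.inr rfl, by simp⟩]
  have hcz : ∀ i j : ι, (c i j.1 : ℤ) - c i o'.1 =
      σ * ((if i = j then 1 else 0) - if i = o' then 1 else 0) := by
    intro i j
    have h1 := hcd i j
    rw [hσ'] at h1
    apply Int.cast_injective (α := ℂ)
    push_cast
    exact h1
  have hcardι : Fintype.card ι = q + 1 := by rw [Fintype.card_coe, hcard]
  have hτval : ∀ i, ((∑ j : ι, c i j.1 : ℕ) : ℤ) =
      (q + 1 : ℕ) * (c i o'.1 : ℤ) + σ * (1 - (q + 1 : ℕ) * if i = o' then 1 else 0) := by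
    intro i
    push_cast
    rw [Finset.sum_congr rfl (g := fun j : ι => (c i o'.1 : ℤ) +
      σ * ((if i = j then 1 else 0) - if i = o' then 1 else 0)) fun j _ => by rw [← hcz i j]; ring,
      Finset.sum_add_distrib, Finset.sum_const, Finset.card_univ, hcardι, ← Finset.mul_sum,
      Finset.sum_sub_distrib, Finset.sum_ite_eq, if_pos (Finset.mem_univ _), Finset.sum_const,
      Finset.card_univ, hcardι, nsmul_eq_mul, nsmul_eq_mul]
    push_cast
    ring
  obtain ⟨A, hA⟩ : ∃ A : ℤ, (c o' o'.1 : ℤ) = A := ⟨_, rfl⟩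
  have hA' : ∀ i, i ≠ o' → (c i o'.1 : ℤ) = A - σ := by
    intro i hi
    have h1 := hτval i
    rw [hτ i, hτval o', if_neg hi, if_pos rfl, hA] at h1
    have hq0 : ((q + 1 : ℕ) : ℤ) ≠ 0 := by positivity
    refine mul_left_cancel₀ hq0 ?_
    push_cast at h1 ⊢
    linarith
  -- the norm of the induced character
  let F := indFun N (o'.1 : N → ℂ)
  have hFres : ∀ x : N, F x = (o'.1 : N → ℂ) x + if x = 1 then ((h : ℂ) * e) else 0 := by
    let δ : N → ℂ := fun x => if x = 1 then 1 else 0
    have hsum' : (o'.1 : N → ℂ) = ((o'.1 : N → ℂ) - (e : ℂ) • δ) + (e : ℂ) • δ := (sub_add_cancel _ _).symm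
    intro x
    have h1 : F x = indFun N ((o'.1 : N → ℂ) - (e : ℂ) • δ) x + (e : ℂ) * indFun N δ x := by
      simp only [F]
      conv_lhs => rw [hsum', Chars.indFun_add, Chars.indFun_smul]
      rfl
    have h2 := (Cfsg.Agent.S0850.result U hTI hlt hC).2 ((o'.1 : N → ℂ) - (e : ℂ) • δ)
      (Chars.isClassFunction_sub (Chars.irr_isClassFunction _) (Chars.isClassFunction_smul _
        fun g k => by simp only [δ, conj_eq_one_iff]))
      (fun x hx => by
        have hx1 : x ≠ 1 := fun e' => hx (by rw [e']; exact one_mem U)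
        simp [δ, hx1, hvan o' x hx])
      (by simp [δ, hdeg]) x
    rw [h1, h2]
    have h3 : indFun N δ x = if x = 1 then ((h + 1 : ℕ) : ℂ) else 0 := by
      split_ifs with hx1
      · rw [hx1, OneMemClass.coe_one, ← s.indFun_one_degree, Chars.indFun_one_eq,
          Chars.indFun_one_eq]
        simp [δ, hN]
      · rw [indFun, Finset.sum_eq_zero, mul_zero]
        intro m _
        by_cases hm : m⁻¹ * (x : G) * m ∈ N
        · rw [Chars.extendByZero_of_mem _ hm]
          simp only [δ, ite_eq_right_iff, one_ne_zero, imp_false]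
          exact fun e' => hx1 (Subtype.ext (by
            have e2 : m⁻¹ * (x : G) * m = 1 := congrArg Subtype.val e'
            calc (x : G) = m * (m⁻¹ * (x : G) * m) * m⁻¹ := by group
              _ = 1 := by rw [e2]; group))
        · exact Chars.extendByZero_of_not_mem _ hm
    rw [h3]
    simp only [Pi.sub_apply, Pi.smul_apply, smul_eq_mul, δ]
    split_ifs <;> push_cast <;> ring
  have hFc : IsCharacter G F := Chars.isCharacter_indFun _ (Chars.irr_isCharacter _)
  choose nF hnF using fun χ : IrrCharacter G =>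
    Chars.isCharacter_classInner_nat hFc (Chars.irr_isCharacter χ)
  have hnorm : ∑ χ : IrrCharacter G, nF χ * nF χ = q := by
    have h1 : classInner F F = (q : ℂ) := by
      show classInner (indFun N (o'.1 : N → ℂ)) F = _
      rw [Chars.classInner_indFun_left _ _ _ (Chars.isClassFunction_indFun _ _)]
      refine (congrArg (classInner (o'.1 : N → ℂ)) (funext hFres : (fun x : N => F x) = _)).trans ?_
      rw [show (fun x : N => (o'.1 : N → ℂ) x + if x = 1 then ((h : ℂ) * e) else 0) =
        (o'.1 : N → ℂ) + fun x => if x = 1 then ((h : ℂ) * e) else 0 from rfl,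
        Chars.classInner_add_right, Chars.classInner_irr_self]
      simp only [classInner]
      rw [Finset.sum_eq_single (1 : N) (fun x _ hx => by rw [if_neg hx, map_zero, mul_zero])
        (fun hh' => absurd (Finset.mem_univ _) hh'), if_pos rfl, hdeg, s.card_normalizer, map_mul,
        Complex.conj_natCast, Complex.conj_natCast, d.q_eq]
      have : (h : ℂ) ≠ 0 := Nat.cast_ne_zero.2 (by have := s.two_le_h; omega)
      have : (e : ℂ) ≠ 0 := Nat.cast_ne_zero.2 (by have := d.three_le; omega)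
      push_cast
      field_simp
      ring
    rw [Chars.isCharacter_eq_sum_classInner hFc] at h1
    rw [Chars.classInner_sum_smul_sum_smul] at h1
    simp only [hnF, Complex.conj_natCast] at h1
    exact_mod_cast h1
  have hnFf : ∀ i, nF (f i) = c i o'.1 := fun i => by
    have h1 := hnF (f i)
    rw [show F = indFun N (o'.1 : N → ℂ) from rfl,
      ← Chars.conj_classInner, Chars.classInner_indFun_right _ _ _ (Chars.irr_isClassFunction _),
      hc i o'.1, Complex.conj_natCast] at h1
    exact_mod_cast h1.symm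
  have hle : ∑ i : ι, c i o'.1 * c i o'.1 ≤ q := by
    refine le_of_le_of_eq ?_ hnorm
    calc ∑ i : ι, c i o'.1 * c i o'.1 = ∑ χ ∈ Finset.univ.image f, nF χ * nF χ := by
          rw [Finset.sum_image fun x _ y _ e' => hfinj e']
          exact Finset.sum_congr rfl fun i _ => by rw [hnFf]
      _ ≤ _ := Finset.sum_le_sum_of_subset_of_nonneg (Finset.subset_univ _) fun _ _ _ => Nat.zero_le _
  have hA0 : 0 ≤ A := hA ▸ Int.natCast_nonneg _
  have hsumc : ((∑ i : ι, c i o'.1 * c i o'.1 : ℕ) : ℤ) = A * A + q * ((A - σ) * (A - σ)) := by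
    rw [Fintype.sum_eq_add_sum_compl o']
    push_cast
    rw [hA]
    congr 1
    rw [Finset.sum_congr rfl (g := fun _ => (A - σ) * (A - σ)) fun i hi => by
      rw [hA' i (by simpa using hi)], Finset.sum_const, Finset.card_compl, Finset.card_singleton,
      hcardι, Nat.add_sub_cancel, nsmul_eq_mul]
  have hle' : A * A + q * ((A - σ) * (A - σ)) ≤ q := by rw [← hsumc]; exact_mod_cast hle
  have hA1 : σ = 1 ∧ A = 1 := by
    obtain ⟨j, hj⟩ := Fintype.exists_ne_of_one_lt_card (by omega : 1 < Fintype.card ι) o'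
    have hj0 : 0 ≤ A - σ := hA' j hj ▸ Int.natCast_nonneg _
    have hq4' : (4 : ℤ) ≤ q := by exact_mod_cast hq4
    rcases hσ with rfl | rfl
    · refine ⟨rfl, ?_⟩
      by_contra hne
      have h1 : 2 ≤ A := by omega
      nlinarith [mul_le_mul_of_nonneg_left (show (1 : ℤ) ≤ (A - 1) * (A - 1) by nlinarith) (show (0 : ℤ) ≤ q by omega)]
    · exfalso
      have hA00 : A = 0 := by
        by_contra hne
        have h1 : 1 ≤ A := by omega
        nlinarith [mul_le_mul_of_nonneg_left (show (1 : ℤ) ≤ (A - -1) * (A - -1) by nlinarith) (show (0 : ℤ) ≤ q by omega)]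
      -- then the induced character is the sum of `q` exceptional ones
      have hall : ∀ χ : IrrCharacter G, χ ∉ Finset.univ.image f → nF χ = 0 := by
        intro χ hχ
        have h1 : ∑ χ ∈ Finset.univ.image f, nF χ * nF χ = q := by
          rw [Finset.sum_image fun x _ y _ e' => hfinj e',
            Finset.sum_congr rfl fun i _ => by rw [hnFf]]
          apply Int.natCast_inj.1
          rw [hsumc, hA00]
          ring
        have h2 := Finset.sum_sdiff (f := fun χ => nF χ * nF χ) (Finset.subset_univ (Finset.univ.image f))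
        rw [h1, hnorm] at h2
        have h3 : ∑ χ ∈ Finset.univ \ Finset.univ.image f, nF χ * nF χ = 0 := by omega
        simpa using (Finset.sum_eq_zero_iff.1 h3) χ (by simpa using hχ)
      have hdegF := congrFun (Chars.isCharacter_eq_sum_classInner hFc) 1
      simp only [Finset.sum_apply, Pi.smul_apply, smul_eq_mul, hnF] at hdegF
      rw [← Finset.sum_subset (Finset.subset_univ (Finset.univ.image f))
        (fun χ _ hχ => by rw [hall χ hχ, Nat.cast_zero, zero_mul]),
        Finset.sum_image fun x _ y _ e' => hfinj e', Fintype.sum_eq_add_sum_compl o',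
        Finset.sum_congr rfl (g := fun _ => (f o' : G → ℂ) 1) (fun i hi => by
          have h1 : c i o'.1 = 1 := by
            have := hA' i (by simpa using hi); omega
          rw [hnFf, h1, Nat.cast_one, one_mul, hone]),
        hnFf, Finset.sum_const, Finset.card_compl, Finset.card_singleton, hcardι,
        Nat.add_sub_cancel, nsmul_eq_mul, show c o' o'.1 = 0 by omega, Nat.cast_zero, zero_mul,
        zero_add] at hdegF
      obtain ⟨D, hD⟩ := Chars.isCharacter_exists_degree (Chars.irr_isCharacter (f o'))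
      rw [show F (1 : G) = F ((1 : N) : G) by rw [OneMemClass.coe_one], hFres, if_pos rfl, hdeg, hD] at hdegF
      have h4 : e + h * e = q * D := by exact_mod_cast hdegF
      have h5 : q ∣ e := (Nat.dvd_add_left (⟨q ^ 2 * e, by rw [hh]; ring⟩ : q ∣ h * e)).1 ⟨D, h4⟩
      have := Nat.le_of_dvd (by have := d.three_le; omega) h5
      have := d.q_eq
      omega
  obtain ⟨hσ1, hA1⟩ := hA1
  have hτ1 : ∑ j : ι, c o' j.1 = 1 := by
    have h1 := hτval o'
    rw [hA, hA1, hσ1, if_pos rfl] at h1
    push_cast at h1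
    apply Int.natCast_inj.1
    push_cast
    rw [h1]
    ring
  have hmain := hZsum o'
  rw [hτ1, Nat.cast_one, mul_one] at hmain
  obtain ⟨D, hD⟩ := Chars.isCharacter_exists_degree (Chars.irr_isCharacter (f o'))
  obtain ⟨v, hv⟩ : ∃ v : ℤ, (f o' : G → ℂ) t0 = v := by
    have he : (e : ℂ) ≠ 0 := Nat.cast_ne_zero.2 (by have := d.three_le; omega)
    obtain ⟨v, hv⟩ := Chars.exists_int_eq_of_isIntegral (Chars.irr_isIntegral (f o') t0)
      (((q : ℚ) * e - D) / e) (by
        push_cast
        rw [eq_div_iff he, ← hmain, hD]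
        ring)
    exact ⟨v, hv⟩
  refine ⟨Finset.univ.image f, v, by rw [Finset.card_image_of_injective _ hfinj, Finset.card_univ, hcardι],
    ?_, ?_, ?_, ?_, ?_⟩
  all_goals simp only [Finset.forall_mem_image, Finset.mem_univ, true_implies]
  · exact hnoperm
  · intro i
    rw [hone i]
    rw [hv] at hmain
    linear_combination hmain
  · intro i t ht
    rw [hinvval i t ht, hv]
  · exact htwofix
  · intro i j g hg
    rw [hagree i g, hagree j g] <;>
    · intro m hm
      exact absurd (show g • m • a = m • a by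
        have h1 : (m⁻¹ * g * m) • a = a := mem_stabilizer_iff.1 (s.le hm)
        rwa [mul_smul, mul_smul, inv_smul_eq_iff] at h1) (hg (m • a))

end Data

end Cfsg.Agent.Lib.Zassenhaus.TwoKernel
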