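import Mathlib
import Cfsg.Agent.Lib.Zassenhaus.TwoKernel.Family
import Cfsg.Agent.Lib.Coherence.Irr

/-!
The exceptional characters vanish on the fixed-point-free elements inverted by an involution.
-/

set_option autoImplicit false

namespace Cfsg.Agent.Lib.Zassenhaus.TwoKernel

open MulAction Cfsg Cfsg.Agent.Lib
open scoped ComplexConjugate

open Classical in
/-- Characters agreeing on `C#`, for `C` a self-centralising abelian subgroup with semiregular
normaliser, are constant there when there are at least three of them. -/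
theorem constant_of_family {G : Type*} [Group G] [Fintype G] (C : Subgroup G)
    (hcomm : ∀ y ∈ C, ∀ z ∈ C, y * z = z * y)
    (hcen : ∀ y ∈ C, y ≠ 1 → Subgroup.centralizer ({y} : Set G) = C)
    (S : Finset (IrrCharacter G)) (hS : 3 ≤ S.card) (D : ℤ)
    (hD : ∀ χ ∈ S, (χ : G → ℂ) 1 = D)
    (hagree : ∀ χ ∈ S, ∀ χ' ∈ S, ∀ y ∈ C, y ≠ 1 → (χ : G → ℂ) y = (χ' : G → ℂ) y) :
    ∃ c : ℤ, (Nat.card C : ℤ) ∣ D - c ∧ ∀ χ ∈ S, ∀ y ∈ C, y ≠ 1 → (χ : G → ℂ) y = c := by
  haveI : IsMulCommutative C := ⟨⟨fun y z => Subtype.ext (hcomm y y.2 z z.2)⟩⟩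
  haveI : Fintype C := Fintype.ofFinite C
  obtain ⟨χ₀, hχ₀⟩ : S.Nonempty := Finset.card_pos.1 (by omega)
  -- multiplicities
  choose m hm using fun (χ : IrrCharacter G) (l : IrrCharacter C) =>
    Chars.isCharacter_classInner_nat (Chars.isCharacter_restrict C (Chars.irr_isCharacter χ))
      (Chars.irr_isCharacter l)
  have hdeg : ∀ l : IrrCharacter C, (l : C → ℂ) 1 = 1 := fun l => Chars.irr_apply_one_of_comm l
  have hsame : ∀ χ ∈ S, ∀ l l' : IrrCharacter C, (m χ l : ℤ) - m χ l' = m χ₀ l - m χ₀ l' := by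
    intro χ hχ l l'
    apply Int.cast_injective (α := ℂ)
    push_cast
    rw [← hm χ l, ← hm χ l', ← hm χ₀ l, ← hm χ₀ l']
    simp only [classInner]
    rw [← mul_sub, ← mul_sub, ← Finset.sum_sub_distrib, ← Finset.sum_sub_distrib]
    congr 1
    refine Finset.sum_congr rfl fun y _ => ?_
    by_cases hy : y = 1
    · subst hy
      simp [hdeg]
    · rw [hagree χ hχ χ₀ hχ₀ y y.2 fun e' => hy (Subtype.ext e')]
  have hfix : ∀ x ∈ Subgroup.normalizer (C : Set G), x ∉ C → ∀ l : IrrCharacter C,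
      (∀ y : C, ∀ y' : C, (y' : G) = x * y * x⁻¹ → (l : C → ℂ) y' = (l : C → ℂ) y) →
      l = Chars.trivialIrr C := by
    intro x hx hxC l hl
    obtain ⟨φ, hφ⟩ := Chars.exists_hom_of_degree_one (Chars.irr_isCharacter l) (hdeg l)
    let F : C → C := fun y => ⟨x * y * x⁻¹ * (y : G)⁻¹,
      mul_mem ((Subgroup.mem_normalizer_iff.1 hx y).1 y.2) (inv_mem y.2)⟩
    have hF : Function.Injective F := by
      intro y z e'
      have e1 : x * (y : G) * x⁻¹ * (y : G)⁻¹ = x * z * x⁻¹ * (z : G)⁻¹ := congrArg Subtype.val e'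
      have hw : (z : G)⁻¹ * y ∈ C := mul_mem (inv_mem z.2) y.2
      have h2 : x * ((z : G)⁻¹ * y) * x⁻¹ = (z : G)⁻¹ * y := by
        calc x * ((z : G)⁻¹ * y) * x⁻¹ = (x * z * x⁻¹)⁻¹ * (x * y * x⁻¹ * (y : G)⁻¹) * y := by group
          _ = (z : G)⁻¹ * y := by rw [e1]; group
      by_contra hne
      refine hxC ?_
      rw [← hcen _ hw fun e2 => hne (Subtype.ext (inv_mul_eq_one.1 e2).symm),
        Subgroup.mem_centralizer_singleton_iff]
      exact mul_inv_eq_iff_eq_mul.1 h2
    refine Subtype.ext (funext fun w => ?_)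
    obtain ⟨y, rfl⟩ := (Finite.injective_iff_surjective.1 hF) w
    have h1 := hl y ⟨x * y * x⁻¹, (Subgroup.mem_normalizer_iff.1 hx y).1 y.2⟩ rfl
    simp only [hφ] at h1
    simp only [Chars.trivialIrr_apply, hφ]
    rw [show F y = (⟨x * y * x⁻¹,
      (Subgroup.mem_normalizer_iff.1 hx y).1 y.2⟩ : C) * y⁻¹ from Subtype.ext rfl, map_mul, map_inv,
      Units.ext h1, mul_inv_cancel, Units.val_one]
  -- all non-trivial multiplicities are equal
  have hflat : ∀ l : IrrCharacter C, l ≠ Chars.trivialIrr C → ∀ l' : IrrCharacter C,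
      l' ≠ Chars.trivialIrr C → (m χ₀ l : ℤ) = m χ₀ l' := by
    intro l hl l' hl'
    by_contra hne
    have hll : l ≠ l' := fun e' => hne (by rw [e'])
    let α : C → ℂ := (l : C → ℂ) - (l' : C → ℂ)
    let V := indFun C α
    have hV : IsGeneralizedCharacter G V := by
      simp only [V, α, Chars.indFun_sub]
      exact Chars.isGeneralizedCharacter_sub
        (Chars.isGeneralizedCharacter_of_isCharacter (Chars.isCharacter_indFun _ (Chars.irr_isCharacter _)))
        (Chars.isGeneralizedCharacter_of_isCharacter (Chars.isCharacter_indFun _ (Chars.irr_isCharacter _)))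
    have hcoef : ∀ χ ∈ S, classInner (χ : G → ℂ) V = (((m χ₀ l : ℤ) - m χ₀ l' : ℤ) : ℂ) := by
      intro χ hχ
      rw [Chars.classInner_indFun_right C _ _ (Chars.irr_isClassFunction χ)]
      simp only [α, Chars.classInner_sub_right]
      show classInner (fun y : C => (χ : G → ℂ) y) _ - classInner (fun y : C => (χ : G → ℂ) y) _ = _
      rw [hm χ l, hm χ l', ← hsame χ hχ l l']
      push_cast
      ring
    let cj : ↥(Subgroup.normalizer (C : Set G)) → IrrCharacter C → IrrCharacter C := fun x k =>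
      ⟨fun y => (k : C → ℂ) (MulEquiv.ofBijective ((Subgroup.normalizerMonoidHom C x).toMonoidHom)
        (Subgroup.normalizerMonoidHom C x).bijective y),
        Chars.isIrrCharacter_comp_mulEquiv _ k.2⟩
    have hcj : ∀ x k (y : C), (cj x k : C → ℂ) y = (k : C → ℂ)
        ⟨(x : G) * y * (x : G)⁻¹, (Subgroup.mem_normalizer_iff.1 x.2 y).1 y.2⟩ := fun _ _ _ => rfl
    have hres : ∀ y : C, V y = (Nat.card C : ℂ)⁻¹ *
        ∑ x : ↥(Subgroup.normalizer (C : Set G)),
          ((cj x l : C → ℂ) y - (cj x l' : C → ℂ) y) := by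
      intro y
      simp only [V, indFun]
      congr 1
      by_cases hy : y = 1
      · subst hy
        rw [Finset.sum_eq_zero, Finset.sum_eq_zero]
        · intro x _
          rw [hdeg, hdeg, sub_self]
        · intro x _
          rw [show x⁻¹ * ((1 : C) : G) * x = 1 by simp, Chars.extendByZero_of_mem _ (one_mem C)]
          exact (congrArg₂ (· - ·) (hdeg l) (hdeg l')).trans (sub_self 1)
      rw [← Finset.sum_subset (Finset.subset_univ
        (Finset.univ.filter fun x : G => x ∈ Subgroup.normalizer (C : Set G))) fun x _ hx => ?_]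
      · refine Finset.sum_bij' (fun x hx => ⟨x⁻¹, inv_mem (Finset.mem_filter.1 hx).2⟩)
          (fun x _ => (x : G)⁻¹) (fun _ _ => Finset.mem_univ _)
          (fun x _ => Finset.mem_filter.2 ⟨Finset.mem_univ _, inv_mem x.2⟩) (fun _ _ => inv_inv _)
          (fun _ _ => Subtype.ext (inv_inv _)) fun x hx => ?_
        have hmem : x⁻¹ * (y : G) * x ∈ C := by
          have := (Subgroup.mem_normalizer_iff.1 (inv_mem (Finset.mem_filter.1 hx).2) (y : G)).1 y.2
          rwa [inv_inv] at this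
        rw [Chars.extendByZero_of_mem _ hmem, hcj, hcj]
        simp only [α, Pi.sub_apply, inv_inv]
      · refine Chars.extendByZero_of_not_mem _ fun hmem => hx (Finset.mem_filter.2 ⟨Finset.mem_univ _, ?_⟩)
        have hy' : (y : G) ≠ 1 := fun e' => hy (Subtype.ext e')
        have hz' : x⁻¹ * (y : G) * x ≠ 1 := fun e' => hy' (by
          calc (y : G) = x * (x⁻¹ * (y : G) * x) * x⁻¹ := by group
            _ = 1 := by rw [e']; group)
        have h1 : C.map (MulAut.conj x⁻¹).toMonoidHom = C := by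
          have h2 := hcen _ hmem hz'
          rw [show x⁻¹ * (y : G) * x = x⁻¹ * (y : G) * x⁻¹⁻¹ by rw [inv_inv], centralizer_conj,
            hcen _ y.2 hy'] at h2
          exact h2
        refine inv_mem_iff.1 (Subgroup.mem_normalizer_iff.2 fun c => ⟨fun hc => h1 ▸ ⟨c, hc, rfl⟩,
          fun hc => ?_⟩)
        obtain ⟨c', hc', he'⟩ := (h1.symm ▸ hc :
          x⁻¹ * c * x⁻¹⁻¹ ∈ C.map (MulAut.conj x⁻¹).toMonoidHom)
        simp only [MulEquiv.toMonoidHom_eq_coe, MonoidHom.coe_coe, MulAut.conj_apply, mul_left_inj,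
          mul_right_inj] at he'
        exact he' ▸ hc'
    have hnorm : (classInner V V).re ≤ 2 := by
      have h1 : classInner V V = (Nat.card C : ℂ)⁻¹ *
          ∑ x : ↥(Subgroup.normalizer (C : Set G)),
            classInner α ((cj x l : C → ℂ) - (cj x l' : C → ℂ)) := by
        rw [show classInner V V = classInner (indFun C α) V from rfl,
          Chars.classInner_indFun_left _ _ _ (Chars.isClassFunction_indFun _ _),
          ← Chars.classInner_sum_right]
        rw [show (fun y : C => V y) = (Nat.card C : ℂ)⁻¹ • ∑ x : ↥(Subgroup.normalizer (C : Set G)),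
          ((cj x l : C → ℂ) - (cj x l' : C → ℂ)) from funext fun y => by
            rw [hres y]; simp, Chars.classInner_smul_right, map_inv₀, Complex.conj_natCast]
      have hterm : ∀ x : ↥(Subgroup.normalizer (C : Set G)),
          ∃ r : ℝ, classInner α ((cj x l : C → ℂ) - (cj x l' : C → ℂ)) = r ∧
            r ≤ if (x : G) ∈ C then 2 else 0 := by
        intro x
        refine ⟨((if l = cj x l then 1 else 0) - (if l = cj x l' then 1 else 0)) -
          ((if l' = cj x l then 1 else 0) - (if l' = cj x l' then 1 else 0)), ?_, ?_⟩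
        · simp only [α, Chars.classInner_sub_left, Chars.classInner_sub_right, Chars.classInner_irr]
          push_cast
          simp only [apply_ite (Complex.ofReal), Complex.ofReal_one, Complex.ofReal_zero]
          ring
        · split_ifs with h1 h2 h3 h4 <;> norm_num
          all_goals
            have hxC : (x : G) ∉ C := by assumption
            first
            | exact hl (hfix x x.2 hxC l fun y y' e' => by
                have e2 := congrFun (congrArg Subtype.val (show l = cj x l by assumption)) y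
                rw [hcj] at e2
                rw [e2]; exact congrArg _ (Subtype.ext e'))
            | exact hl' (hfix x x.2 hxC l' fun y y' e' => by
                have e2 := congrFun (congrArg Subtype.val (show l' = cj x l' by assumption)) y
                rw [hcj] at e2
                rw [e2]; exact congrArg _ (Subtype.ext e'))
      choose r hr hr' using hterm
      have hle : ∑ x : ↥(Subgroup.normalizer (C : Set G)), r x ≤ 2 * (Nat.card C : ℝ) := by
        refine (Finset.sum_le_sum fun x _ => hr' x).trans ?_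
        rw [← Finset.sum_filter, Finset.sum_const, nsmul_eq_mul, mul_comm]
        refine mul_le_mul_of_nonneg_left ?_ (by norm_num)
        exact_mod_cast (le_of_eq_of_le (Fintype.card_subtype _).symm (by
          rw [Nat.card_eq_fintype_card]
          exact Fintype.card_le_of_injective (fun p => (⟨(p.1 : G), p.2⟩ : C))
            fun p p' e' => Subtype.ext (Subtype.ext (Subtype.mk.inj e'))) : _)
      rw [h1, Finset.sum_congr rfl fun x _ => hr x, ← Complex.ofReal_sum, ← Complex.ofReal_natCast,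
        ← Complex.ofReal_inv, ← Complex.ofReal_mul, Complex.ofReal_re]
      have ha : (0 : ℝ) < Nat.card C := Nat.cast_pos.2 Nat.card_pos
      rw [inv_mul_le_iff₀ ha]
      linarith
    have hsum := Chars.classInner_eq_sum_mul_conj (φ := V) (ψ := V)
      (Chars.isClassFunction_indFun _ _) (Chars.isClassFunction_indFun _ _)
    rw [hsum, Complex.re_sum] at hnorm
    have hlow : (S.card : ℝ) * (((m χ₀ l : ℤ) - m χ₀ l' : ℤ) : ℝ) ^ 2 ≤
        ∑ χ : IrrCharacter G, (classInner V (χ : G → ℂ) * conj (classInner V (χ : G → ℂ))).re := by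
      rw [← nsmul_eq_mul, ← Finset.sum_const]
      refine le_trans (le_of_eq (Finset.sum_congr rfl fun χ hχ => ?_))
        (Finset.sum_le_sum_of_subset_of_nonneg (Finset.subset_univ S) fun χ _ _ => by
          rw [Complex.mul_conj, Complex.ofReal_re]
          exact Complex.normSq_nonneg _)
      rw [← Chars.conj_classInner, hcoef χ hχ, Complex.conj_conj]
      simp [pow_two]
    have h3 : (1 : ℝ) ≤ (((m χ₀ l : ℤ) - m χ₀ l' : ℤ) : ℝ) ^ 2 := by
      have : (1 : ℤ) ≤ ((m χ₀ l : ℤ) - m χ₀ l') ^ 2 := by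
        have h5 : (m χ₀ l : ℤ) - m χ₀ l' ≠ 0 := sub_ne_zero.2 hne
        nlinarith [mul_self_pos.2 h5]
      exact_mod_cast this
    have h4 : (3 : ℝ) ≤ S.card := by exact_mod_cast hS
    nlinarith [mul_le_mul h4 h3 zero_le_one (Nat.cast_nonneg _)]
  -- the value
  obtain ⟨m1, hm1⟩ : ∃ m1 : ℤ, ∀ l : IrrCharacter C, l ≠ Chars.trivialIrr C → (m χ₀ l : ℤ) = m1 := by
    by_cases hex : ∃ l : IrrCharacter C, l ≠ Chars.trivialIrr C
    · obtain ⟨l, hl⟩ := hex
      exact ⟨m χ₀ l, fun l' hl' => hflat l' hl' l hl⟩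
    · exact ⟨0, fun l hl => absurd ⟨l, hl⟩ hex⟩
  have hval : ∀ y : C, (χ₀ : G → ℂ) y = ((m χ₀ (Chars.trivialIrr C) : ℤ) - m1 : ℤ) +
      (m1 : ℂ) * if y = 1 then (Nat.card C : ℂ) else 0 := by
    intro y
    have h1 := congrFun (Chars.isCharacter_eq_sum_classInner
      (Chars.isCharacter_restrict C (Chars.irr_isCharacter χ₀))) y
    simp only [Finset.sum_apply, Pi.smul_apply, smul_eq_mul, hm] at h1
    rw [h1, Finset.sum_congr rfl (g := fun l : IrrCharacter C =>
      (((m χ₀ (Chars.trivialIrr C) : ℤ) - m1 : ℤ) : ℂ) * (if l = Chars.trivialIrr C then 1 else 0) +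
        (m1 : ℂ) * ((l : C → ℂ) 1 * (l : C → ℂ) y)) fun l _ => ?_, Finset.sum_add_distrib,
      ← Finset.mul_sum, ← Finset.mul_sum, Chars.sum_degree_mul_irr y, Finset.sum_ite_eq',
      if_pos (Finset.mem_univ _), mul_one]
    by_cases hl : l = Chars.trivialIrr C
    · subst hl
      rw [if_pos rfl, Chars.trivialIrr_apply, Chars.trivialIrr_apply]
      push_cast
      ring
    · rw [if_neg hl, hdeg, ← hm1 l hl]
      push_cast
      ring
  refine ⟨(m χ₀ (Chars.trivialIrr C) : ℤ) - m1, ⟨m1, ?_⟩, fun χ hχ y hy hy1 => ?_⟩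
  · have h1 := hval 1
    rw [OneMemClass.coe_one, hD χ₀ hχ₀, if_pos rfl] at h1
    apply Int.cast_injective (α := ℂ)
    push_cast at h1 ⊢
    rw [h1]
    ring
  · rw [hagree χ hχ χ₀ hχ₀ y hy hy1]
    have h1 := hval ⟨y, hy⟩
    rw [if_neg fun e' => hy1 (congrArg Subtype.val e'), mul_zero, add_zero] at h1
    exact h1

variable {G Ω : Type*} [Group G] [Fintype G] [MulAction G Ω] [Fintype Ω]
  {U : Subgroup G} {a b : Ω} {h e q : ℕ}

namespace Data

open Classical in
/-- The exceptional characters vanish on real fixed-point-free elements, and the orders of the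
centralisers of such elements divide their degree. -/
theorem vanish_realFree (d : Data U a b h e q) (hh : h = q ^ 3) (S : Finset (IrrCharacter G))
    (v : ℤ) (hS : S.card = q + 1)
    (hperm : ∀ χ ∈ S, classInner (Chars.permChar (G := G) Ω) (χ : G → ℂ) = 0)
    (hdeg : ∀ χ ∈ S, (χ : G → ℂ) 1 = (e : ℂ) * ((q : ℂ) - v))
    (hfree : ∀ χ ∈ S, ∀ χ' ∈ S, ∀ g : G, (∀ c : Ω, g • c ≠ c) → (χ : G → ℂ) g = (χ' : G → ℂ) g)
    {g : G} (hg : IsRealFree Ω g) :
    (∀ χ ∈ S, (χ : G → ℂ) g = 0) ∧
      (Nat.card (Subgroup.centralizer ({g} : Set G)) : ℤ) ∣ (e : ℤ) * ((q : ℤ) - v) := by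
  haveI := isPretransitive_of_is_two_pretransitive (h2 := d.setup.zass.2.1)
  haveI : Nontrivial Ω := ⟨⟨a, b, d.setup.ne⟩⟩
  set C := Subgroup.centralizer ({g} : Set G) with hC
  obtain ⟨t, ht, htg⟩ := hg.2
  obtain ⟨-, -, hcomm, -⟩ := d.centralizer_facts hg.1 ht htg
  have hgC : g ∈ C := Subgroup.mem_centralizer_singleton_iff.2 rfl
  have hg1 : g ≠ 1 := realFree_ne_one hg a
  have hq4 : 4 ≤ q := by have := d.q_eq; have := d.three_le; omega
  obtain ⟨c, hdvd, hval⟩ := constant_of_family C hcomm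
    (fun y hy hy1 => (d.centralizer_of_mem hg hy hy1).2) S (by omega) ((e : ℤ) * ((q : ℤ) - v))
    (fun χ hχ => by rw [hdeg χ hχ]; push_cast; ring)
    (fun χ hχ χ' hχ' y hy hy1 => hfree χ hχ χ' hχ' y (d.centralizer_of_mem hg hy hy1).1.1)
  suffices hc : c = 0 by
    subst hc
    exact ⟨fun χ hχ => by rw [hval χ hχ g hgC hg1]; simp, by simpa using hdvd⟩
  obtain ⟨W, -, hWe, hWlt, ⟨hWh, hWn⟩, hW8, -, hfus⟩ := d.normalizer_facts hg
  set w := Nat.card W with hw
  set n := Nat.card C with hn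
  haveI : Fintype W := Fintype.ofFinite W
  -- the sum over the non-identity elements
  let Cs : Finset G := Finset.univ.filter fun y => y ≠ 1 ∧ y ∈ C
  have hCs : (Cs.card : ℝ) = (n : ℝ) - 1 := by
    have h1 : Cs = (Finset.univ.filter fun z => z ∈ C).erase 1 := by
      ext z; simp [Cs, and_comm]
    have h2 : 1 ≤ n := Nat.card_pos
    rw [h1, Finset.card_erase_of_mem (by simp), ← Fintype.card_subtype, ← Nat.card_eq_fintype_card,
      Nat.cast_sub h2, Nat.cast_one]
  let X : IrrCharacter G → ℂ := fun χ => ∑ y ∈ Cs, (χ : G → ℂ) y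
  have hupper : ∑ χ : IrrCharacter G, Complex.normSq (X χ) ≤ ((n : ℝ) - 1) * (n * w) := by
    have h1 : ∑ χ : IrrCharacter G, X χ * conj (X χ) =
        ∑ z ∈ Cs, ((n * (Cs.filter fun y => IsConj z y).card : ℕ) : ℂ) := by
      simp only [X, map_sum, Finset.sum_mul, Finset.mul_sum]
      rw [Finset.sum_comm]
      rw [Finset.sum_congr rfl (g := fun y => ∑ z ∈ Cs,
        ((n : ℂ) * if IsConj z y then (1 : ℂ) else 0)) fun y hy => ?_]
      · rw [Finset.sum_comm]
        refine Finset.sum_congr rfl fun z hz => ?_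
        rw [← Finset.mul_sum, Finset.sum_boole, Nat.cast_mul]
      · rw [Finset.sum_comm]
        refine Finset.sum_congr rfl fun z hz => ?_
        obtain ⟨hz1, hzC⟩ := (Finset.mem_filter.1 hz).2
        obtain ⟨hy1, hyC⟩ := (Finset.mem_filter.1 hy).2
        rw [Chars.column_orthogonality_eq, (d.centralizer_of_mem hg hyC hy1).2, ← hn, Chars.classIndicator]
        congr 1
        simp only [isConj_comm]
        split_ifs <;> rfl
    have h2 : ∀ z ∈ Cs, (Cs.filter fun y => IsConj z y).card ≤ w := by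
      intro z hz
      obtain ⟨hz1, hzC⟩ := (Finset.mem_filter.1 hz).2
      refine le_trans (Finset.card_le_card (t := Finset.univ.image fun x : W => (x : G) * z * (x : G)⁻¹)
        fun y hy => ?_) ?_
      · obtain ⟨hy, hzy⟩ := Finset.mem_filter.1 hy
        obtain ⟨x, hx, hxy⟩ := hfus z hzC hz1 y (Finset.mem_filter.1 hy).2.2 hzy
        exact Finset.mem_image.2 ⟨⟨x, hx⟩, Finset.mem_univ _, hxy⟩
      · exact Finset.card_image_le.trans (by rw [hw, Nat.card_eq_fintype_card, Finset.card_univ])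
    have h3 : ((∑ χ : IrrCharacter G, Complex.normSq (X χ) : ℝ) : ℂ) =
        ((∑ z ∈ Cs, n * (Cs.filter fun y => IsConj z y).card : ℕ) : ℂ) := by
      rw [Complex.ofReal_sum, Nat.cast_sum, ← h1]
      exact Finset.sum_congr rfl fun χ _ => (Complex.mul_conj _).symm
    rw [← Complex.ofReal_natCast, Complex.ofReal_inj] at h3
    rw [h3, ← hCs]
    calc ((∑ z ∈ Cs, n * (Cs.filter fun y => IsConj z y).card : ℕ) : ℝ)
        ≤ ((∑ _z ∈ Cs, n * w : ℕ) : ℝ) := by
          exact_mod_cast Finset.sum_le_sum fun z hz => Nat.mul_le_mul_left n (h2 z hz)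
      _ = _ := by rw [Finset.sum_const, smul_eq_mul]; push_cast; ring
  have hΓ : IsIrrCharacter G (fun g => Chars.permChar (G := G) Ω g - 1) :=
    (Chars.isIrrCharacter_permChar_sub_one_iff Ω).2 d.setup.zass.2.1
  have hperm0 : ∀ y ∈ Cs, Chars.permChar (G := G) Ω y = 0 := by
    intro y hy
    obtain ⟨hy1, hyC⟩ := (Finset.mem_filter.1 hy).2
    rw [Chars.permChar, Nat.cast_eq_zero]
    exact Nat.card_eq_zero.2 (Or.inl ⟨fun p => (d.centralizer_of_mem hg hyC hy1).1.1 p.1 p.2⟩)
  have hne : Chars.trivialIrr G ≠ ⟨_, hΓ⟩ := fun e' => by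
    have h1 := congrFun (congrArg Subtype.val e') g
    simp only [Chars.trivialIrr_apply] at h1
    rw [hperm0 g (Finset.mem_filter.2 ⟨Finset.mem_univ _, hg1, hgC⟩)] at h1
    norm_num at h1
  have hsplit : Chars.permChar (G := G) Ω =
      (Chars.trivialIrr G : G → ℂ) + ((⟨_, hΓ⟩ : IrrCharacter G) : G → ℂ) := by
    funext g
    simp [Chars.trivialIrr]
  have hnotin : ∀ χ ∈ S, χ ≠ Chars.trivialIrr G ∧ χ ≠ ⟨_, hΓ⟩ := by
    intro χ hχ
    have h1 := hperm χ hχ
    rw [hsplit, Chars.classInner_add_left] at h1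
    refine ⟨fun e' => ?_, fun e' => ?_⟩ <;> subst e'
    · rw [Chars.classInner_irr_self, Chars.classInner_irr_of_ne hne.symm] at h1
      norm_num at h1
    · rw [Chars.classInner_irr_self, Chars.classInner_irr_of_ne hne] at h1
      norm_num at h1
  have hlower : ((q : ℝ) + 1) * ((c : ℝ) * ((n : ℝ) - 1)) ^ 2 + 2 * ((n : ℝ) - 1) ^ 2 ≤
      ∑ χ : IrrCharacter G, Complex.normSq (X χ) := by
    have hsub := Finset.sum_le_sum_of_subset_of_nonneg
      (Finset.subset_univ (insert (Chars.trivialIrr G) (insert (⟨_, hΓ⟩ : IrrCharacter G) S)))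
      (f := fun χ : IrrCharacter G => Complex.normSq (X χ)) fun χ _ _ => Complex.normSq_nonneg _
    refine le_trans (le_of_eq ?_) hsub
    have hn1 : (⟨_, hΓ⟩ : IrrCharacter G) ∉ S := fun hmem => (hnotin _ hmem).2 rfl
    have hn2 : Chars.trivialIrr G ∉ insert (⟨_, hΓ⟩ : IrrCharacter G) S := by
      rw [Finset.mem_insert, not_or]
      exact ⟨hne, fun hmem => (hnotin _ hmem).1 rfl⟩
    rw [Finset.sum_insert hn2, Finset.sum_insert hn1]
    have e1 : X (Chars.trivialIrr G) = (((n : ℝ) - 1 : ℝ) : ℂ) := by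
      simp only [X, Chars.trivialIrr_apply, Finset.sum_const, nsmul_eq_mul, mul_one]
      rw [← hCs]; push_cast; rfl
    have e2 : X ⟨_, hΓ⟩ = ((-((n : ℝ) - 1) : ℝ) : ℂ) := by
      simp only [X]
      rw [Finset.sum_congr rfl (g := fun _ => (-1 : ℂ)) fun y hy => by rw [hperm0 y hy, zero_sub],
        Finset.sum_const, nsmul_eq_mul, ← hCs]
      push_cast; ring
    have e3 : ∀ χ ∈ S, X χ = (((c : ℝ) * ((n : ℝ) - 1) : ℝ) : ℂ) := fun χ hχ => by
      simp only [X]
      rw [Finset.sum_congr rfl (g := fun _ => ((c : ℤ) : ℂ)) fun y hy =>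
        hval χ hχ y (Finset.mem_filter.1 hy).2.2 (Finset.mem_filter.1 hy).2.1,
        Finset.sum_const, nsmul_eq_mul, ← hCs]
      push_cast; ring
    rw [e1, e2, Finset.sum_congr rfl fun χ hχ => by rw [e3 χ hχ], Finset.sum_const, hS,
      Complex.normSq_ofReal, Complex.normSq_ofReal, Complex.normSq_ofReal, nsmul_eq_mul]
    push_cast
    ring
  have hn3 : 3 ≤ n := d.two_le_centralizer hg
  have hmain : ((q : ℤ) + 1) * c ^ 2 + 1 ≤ w := by
    have h1 := hlower.trans hupper
    have hn0 : (0 : ℝ) < (n : ℝ) - 1 := by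
      have : (3 : ℝ) ≤ n := by exact_mod_cast hn3
      linarith
    have h2 : (((q : ℝ) + 1) * (c : ℝ) ^ 2 + 2) * ((n : ℝ) - 1) ≤ (n : ℝ) * w := by
      refine le_of_mul_le_mul_left ?_ hn0
      nlinarith
    have h3 : (n : ℝ) * w ≤ ((n : ℝ) - 1) * ((w : ℝ) + 1) := by
      have : (w : ℝ) + 1 ≤ n := by exact_mod_cast hWlt
      nlinarith
    have h4 : ((q : ℝ) + 1) * (c : ℝ) ^ 2 + 2 ≤ (w : ℝ) + 1 := by
      refine le_of_mul_le_mul_right ?_ hn0
      nlinarith
    have h5 : ((((q : ℤ) + 1) * c ^ 2 + 1 : ℤ) : ℝ) ≤ ((w : ℤ) : ℝ) := by push_cast; linarith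
    exact_mod_cast h5
  by_contra hc0
  have hc2 : 1 ≤ c ^ 2 := by nlinarith [mul_self_pos.2 hc0]
  have hq8 : q + 2 ≤ 8 := by
    have : ((q : ℤ) + 1) + 1 ≤ w := by nlinarith
    omega
  obtain ⟨k, hk⟩ := d.q_pow
  have hq : q = 4 := by
    have hk3 : k < 3 := by
      by_contra hk3
      have := Nat.pow_le_pow_right two_pos (not_lt.1 hk3)
      omega
    interval_cases k <;> omega
  subst hq
  have he : e = 3 := by have := d.q_eq; omega
  subst he
  have hc1 : c ^ 2 = 1 := by
    by_contra hne1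
    have : 2 ≤ c ^ 2 := by omega
    omega
  -- only 65 is possible
  have hnd : n ∣ 65 := by
    have := d.card_centralizer_dvd hg
    rw [hh] at this
    exact this
  have hw8 : w = 8 := by
    obtain ⟨i, -, hi⟩ := (Nat.dvd_prime_pow Nat.prime_two).1 (show Nat.card W ∣ 2 ^ 6 by
      rw [hh] at hWh; rw [show (2 : ℕ) ^ 6 = 4 ^ 3 by norm_num]; exact hWh)
    have hw6 : 6 ≤ w := by omega
    have hi3 : i < 4 := by
      by_contra hi4
      have := Nat.pow_le_pow_right two_pos (not_lt.1 hi4)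
      omega
    interval_cases i <;> omega
  have hn65 : n = 65 := by
    have hle := Nat.le_of_dvd (by norm_num) hnd
    have hn8 : 8 ∣ n - 1 := hw8 ▸ hWn
    interval_cases n <;> first | omega | norm_num at hnd
  obtain ⟨D, hD⟩ : ∃ D : ℤ, (3 : ℤ) * (4 - v) = D := ⟨_, rfl⟩
  have hD49 : D ^ 2 * 5 ≤ 12480 := by
    have hle := Finset.sum_le_sum_of_subset_of_nonneg (Finset.subset_univ S)
      (f := fun χ : IrrCharacter G => Complex.normSq ((χ : G → ℂ) 1)) fun χ _ _ => Complex.normSq_nonneg _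
    have h1 : ∑ χ : IrrCharacter G, Complex.normSq ((χ : G → ℂ) 1) = (Nat.card G : ℝ) := by
      have h2 : ((∑ χ : IrrCharacter G, Complex.normSq ((χ : G → ℂ) 1) : ℝ) : ℂ) = (Nat.card G : ℂ) := by
        rw [← Chars.sum_degree_sq (G := G), Complex.ofReal_sum]
        refine Finset.sum_congr rfl fun χ _ => ?_
        obtain ⟨k, hk⟩ := Chars.isCharacter_exists_degree (Chars.irr_isCharacter χ)
        rw [hk, Complex.normSq_natCast]
        push_cast; ring
      exact_mod_cast h2
    rw [h1, Finset.sum_congr rfl (g := fun _ => ((D : ℤ) : ℝ) ^ 2) fun χ hχ => by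
      rw [hdeg χ hχ, show ((3 : ℕ) : ℂ) * (((4 : ℕ) : ℂ) - v) = (((D : ℤ) : ℝ) : ℂ) by
        rw [← hD]; push_cast; ring, Complex.normSq_ofReal, pow_two], Finset.sum_const, hS, nsmul_eq_mul,
      d.card_group, hh] at hle
    norm_num at hle
    have h3 : ((D ^ 2 * 5 : ℤ) : ℝ) ≤ ((12480 : ℤ) : ℝ) := by push_cast; linarith
    exact_mod_cast h3
  have hD64 : -64 < D ∧ D < 64 := ⟨by nlinarith, by nlinarith⟩
  push_cast at hdvd
  rw [hD, hn65] at hdvd
  have h0 := Int.eq_zero_of_abs_lt_dvd hdvd (by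
    rcases (mul_self_eq_one_iff.1 (by rw [← pow_two]; exact hc1) : c = 1 ∨ c = -1) with rfl | rfl <;>
      rw [abs_lt] <;> push_cast <;> omega)
  rcases (mul_self_eq_one_iff.1 (by rw [← pow_two]; exact hc1) : c = 1 ∨ c = -1) with rfl | rfl <;> omega

end Data

end Cfsg.Agent.Lib.Zassenhaus.TwoKernel
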