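import Mathlib
import Cfsg.Agent.Lib.Zassenhaus.TwoKernel.Count

/-!
If the kernel has order `q²` there are two classes of centralisers of real fixed-point-free
elements, of coprime orders with sum `2q + 2` and product dividing `q² + 1`; hence `q` is an odd
power of two.
-/

set_option autoImplicit false

namespace Cfsg.Agent.Lib.Zassenhaus.TwoKernel

open MulAction Cfsg Cfsg.Agent.Lib

/-- Vieta jumping. -/
theorem vieta_descent {k : ℤ} : ∀ n : ℕ, ∀ x y : ℤ, 1 ≤ x → 1 ≤ y → x + y ≤ n →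
    (x + y - 2) ^ 2 + 4 = 4 * k * (x * y) → k = 1 := by
  intro n
  induction n using Nat.strong_induction_on with
  | _ n ih =>
    intro x y hx hy hn heq
    wlog hxy : x ≤ y generalizing x y
    · exact this y x hy hx (by omega) (by rw [add_comm y x, mul_comm y x]; exact heq) (by omega)
    obtain ⟨z, hz⟩ : ∃ z : ℤ, z = (4 * k - 2) * x + 4 - y := ⟨_, rfl⟩
    have hprod : y * z = x ^ 2 - 4 * x + 8 := by rw [hz]; linear_combination -heq
    have hpos : 0 < x ^ 2 - 4 * x + 8 := by nlinarith [sq_nonneg (x - 2)]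
    have hz1 : 1 ≤ z := by
      by_contra hz0
      nlinarith
    rcases lt_or_ge z y with hlt | hge
    · refine ih (x + z).toNat (by omega) x z hx hz1 (by omega) ?_
      rw [hz] at hprod ⊢
      linear_combination -hprod
    · have h1 : y * y ≤ x ^ 2 - 4 * x + 8 := hprod ▸ mul_le_mul_of_nonneg_left hge (by omega)
      have hx2 : x ≤ 2 := by nlinarith
      have hy2 : y ≤ 2 := by nlinarith
      interval_cases x <;> interval_cases y <;> omega

theorem odd_of_sum_prod {x y k n : ℕ} (hx : 1 ≤ x) (hy : 1 ≤ y) (hsum : x + y = 2 * 2 ^ n + 2)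
    (hprod : x * y * k = (2 ^ n) ^ 2 + 1) : Odd n := by
  have h1 : (x : ℤ) + y = 2 * 2 ^ n + 2 := by exact_mod_cast hsum
  have h2 : (x : ℤ) * y * k = (2 ^ n) ^ 2 + 1 := by exact_mod_cast hprod
  have hk : (k : ℤ) = 1 := vieta_descent (x + y) x y (by omega) (by omega) (by push_cast; omega)
    (by rw [h1]; linear_combination -4 * h2)
  rw [hk, mul_one] at h2
  obtain ⟨z, hz⟩ : ∃ z : ℕ, z ^ 2 = 2 ^ (n + 3) := by
    refine ⟨((x : ℤ) - y).natAbs, ?_⟩
    have h3 : ((x : ℤ) - y) ^ 2 = 2 ^ (n + 3) := by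
      rw [show ((x : ℤ) - y) ^ 2 = ((x : ℤ) + y) ^ 2 - 4 * (x * y) by ring, h1, h2]
      ring
    have h4 : ((((x : ℤ) - y).natAbs ^ 2 : ℕ) : ℤ) = ((2 ^ (n + 3) : ℕ) : ℤ) := by
      push_cast
      rw [sq_abs]
      exact h3
    exact_mod_cast h4
  obtain ⟨j, -, rfl⟩ := (Nat.dvd_prime_pow Nat.prime_two).1
    (⟨z, by rw [← hz, pow_two]⟩ : z ∣ 2 ^ (n + 3))
  rw [← pow_mul] at hz
  have h5 := Nat.pow_right_injective le_rfl hz
  exact Nat.odd_iff.2 (by omega)

variable {G Ω : Type*} [Group G] [Fintype G] [MulAction G Ω] [Fintype Ω]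
  {U : Subgroup G} {a b : Ω} {h e q : ℕ}

namespace Data

theorem mem_normalizer_of_conj (d : Data U a b h e q) {g : G} (hg : IsRealFree Ω g) {y m : G}
    (hy : y ∈ Subgroup.centralizer ({g} : Set G)) (hy1 : y ≠ 1)
    (hm : m * y * m⁻¹ ∈ Subgroup.centralizer ({g} : Set G)) :
    m ∈ Subgroup.normalizer (Subgroup.centralizer ({g} : Set G) : Set G) := by
  set C := Subgroup.centralizer ({g} : Set G)
  have h1 : C.map (MulAut.conj m).toMonoidHom = C := by
    have h2 := (d.centralizer_of_mem hg hm fun e' => hy1 (conj_eq_one_iff.1 e')).2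
    rw [centralizer_conj, (d.centralizer_of_mem hg hy hy1).2] at h2
    exact h2
  refine Subgroup.mem_normalizer_iff.2 fun c => ⟨fun hc => h1 ▸ ⟨c, hc, rfl⟩, fun hc => ?_⟩
  obtain ⟨c', hc', he'⟩ := (h1.symm ▸ hc : m * c * m⁻¹ ∈ C.map (MulAut.conj m).toMonoidHom)
  simp only [MulEquiv.toMonoidHom_eq_coe, MonoidHom.coe_coe, MulAut.conj_apply, mul_left_inj,
    mul_right_inj] at he'
  exact he' ▸ hc'

theorem realFree_conj {g : G} (hg : IsRealFree Ω g) (m : G) : IsRealFree Ω (m * g * m⁻¹) := by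
  obtain ⟨hfree, t, ht, htg⟩ := hg
  refine ⟨fun c hc => hfree (m⁻¹ • c) ?_, m * t * m⁻¹,
    (MulEquiv.orderOf_eq (MulAut.conj m) t).trans ht, ?_⟩
  · rw [mul_smul, mul_smul] at hc
    exact eq_inv_smul_iff.2 hc
  · calc m * t * m⁻¹ * (m * g * m⁻¹) * (m * t * m⁻¹)⁻¹ = m * (t * g * t⁻¹) * m⁻¹ := by group
      _ = (m * g * m⁻¹)⁻¹ := by rw [htg]; group

theorem card_centralizer_conj (g m : G) : Nat.card (Subgroup.centralizer ({m * g * m⁻¹} : Set G)) =
    Nat.card (Subgroup.centralizer ({g} : Set G)) := by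
  rw [centralizer_conj, Subgroup.card_map_of_injective (MulAut.conj m).injective]

open Classical in
/-- The real fixed-point-free elements conjugate into the centraliser of `g`. -/
noncomputable def orbitSet (g : G) : Finset G :=
  Finset.univ.filter fun y => y ≠ 1 ∧ ∃ m : G, m * y * m⁻¹ ∈ Subgroup.centralizer ({g} : Set G)

theorem mem_orbitSet {g y : G} : y ∈ orbitSet g ↔
    y ≠ 1 ∧ ∃ m : G, m * y * m⁻¹ ∈ Subgroup.centralizer ({g} : Set G) := by
  simp [orbitSet]

theorem orbitSet_facts (d : Data U a b h e q) {g y : G} (hg : IsRealFree Ω g) (hy : y ∈ orbitSet g) :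
    IsRealFree Ω y ∧ Nat.card (Subgroup.centralizer ({y} : Set G)) =
      Nat.card (Subgroup.centralizer ({g} : Set G)) := by
  obtain ⟨hy1, m, hm⟩ := mem_orbitSet.1 hy
  have h1 := d.centralizer_of_mem hg hm fun e' => hy1 (conj_eq_one_iff.1 e')
  refine ⟨?_, by rw [← card_centralizer_conj y m, h1.2]⟩
  have h2 := realFree_conj h1.1 m⁻¹
  rwa [show m⁻¹ * (m * y * m⁻¹) * m⁻¹⁻¹ = y by group] at h2

open Classical in
/-- The size of an orbit. -/
theorem card_orbitSet (d : Data U a b h e q) {g : G} (hg : IsRealFree Ω g) :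
    (orbitSet g).card *
      Nat.card ↥(Subgroup.normalizer (Subgroup.centralizer ({g} : Set G) : Set G)) =
    Nat.card G * (Nat.card (Subgroup.centralizer ({g} : Set G)) - 1) := by
  set C := Subgroup.centralizer ({g} : Set G) with hC
  set N := Subgroup.normalizer (C : Set G)
  let Cs : Finset G := Finset.univ.filter fun z => z ≠ 1 ∧ z ∈ C
  have hCs : Cs.card = Nat.card C - 1 := by
    have h1 : Cs = (Finset.univ.filter fun z => z ∈ C).erase 1 := by
      ext z
      simp [Cs, and_comm]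
    rw [h1, Finset.card_erase_of_mem (by simp), Nat.card_eq_fintype_card, Fintype.card_subtype]
  rw [← hCs, Nat.card_eq_fintype_card (α := G), ← Finset.card_univ, ← Finset.card_product]
  rw [Finset.card_eq_sum_card_fiberwise (s := Finset.univ ×ˢ Cs)
    (f := fun p : G × G => p.1⁻¹ * p.2 * p.1) (t := orbitSet g) fun p hp => ?_]
  · rw [Finset.sum_congr rfl (g := fun _ => Nat.card N), Finset.sum_const, smul_eq_mul]
    intro y hy
    obtain ⟨hy1, m, hm⟩ := mem_orbitSet.1 hy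
    rw [Nat.card_eq_fintype_card, ← Finset.card_univ]
    symm
    refine Finset.card_bij (fun (n : N) _ => ((n : G) * m, (n : G) * (m * y * m⁻¹) * (n : G)⁻¹))
      ?_ ?_ ?_
    · intro n _
      simp only [Finset.mem_filter, Finset.mem_product, Finset.mem_univ, true_and, Cs]
      refine ⟨⟨fun e' => hy1 (conj_eq_one_iff.1 (conj_eq_one_iff.1 e')),
        (Subgroup.mem_normalizer_iff.1 n.2 _).1 hm⟩, by group⟩
    · intro n _ n' _ e'
      exact Subtype.ext (mul_right_cancel (Prod.ext_iff.1 e').1)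
    · rintro ⟨x, z⟩ hp
      simp only [Finset.mem_filter, Finset.mem_product, Finset.mem_univ, true_and, Cs] at hp
      obtain ⟨⟨hz1, hz⟩, rfl⟩ := hp
      have hn : x * m⁻¹ ∈ N := d.mem_normalizer_of_conj hg hm
        (fun e' => hy1 (conj_eq_one_iff.1 e')) (by
          rw [show x * m⁻¹ * (m * (x⁻¹ * z * x) * m⁻¹) * (x * m⁻¹)⁻¹ = z by group]; exact hz)
      refine ⟨⟨x * m⁻¹, hn⟩, Finset.mem_univ _, Prod.ext ?_ ?_⟩
      · show x * m⁻¹ * m = x
        rw [inv_mul_cancel_right]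
      · show x * m⁻¹ * (m * (x⁻¹ * z * x) * m⁻¹) * (x * m⁻¹)⁻¹ = z
        group
  · simp only [Finset.coe_product, Set.mem_prod, Finset.mem_coe, Finset.mem_filter, Finset.mem_univ,
      true_and, Cs] at hp
    refine mem_orbitSet.2 ⟨fun e' => hp.1 ?_, p.1, ?_⟩
    · calc p.2 = p.1 * (p.1⁻¹ * p.2 * p.1) * p.1⁻¹ := by group
        _ = 1 := by simp only at e'; rw [e']; group
    · rw [show p.1 * (p.1⁻¹ * p.2 * p.1) * p.1⁻¹ = p.2 by group]
      exact hp.2

theorem mem_orbitSet_of_meet (d : Data U a b h e q) {g g' y : G} (hg : IsRealFree Ω g)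
    (hg' : IsRealFree Ω g') (hy : y ∈ orbitSet g) (hy' : y ∈ orbitSet g') : g' ∈ orbitSet g := by
  obtain ⟨hy1, m, hm⟩ := mem_orbitSet.1 hy
  obtain ⟨-, m', hm'⟩ := mem_orbitSet.1 hy'
  refine mem_orbitSet.2 ⟨realFree_ne_one hg' a, m * m'⁻¹, ?_⟩
  rw [← (d.centralizer_of_mem hg hm fun e' => hy1 (conj_eq_one_iff.1 e')).2]
  have h1 := (d.centralizer_of_mem hg' hm' fun e' => hy1 (conj_eq_one_iff.1 e')).2
  have h2 : g' ∈ Subgroup.centralizer ({m' * y * m'⁻¹} : Set G) := by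
    rw [h1]; exact Subgroup.mem_centralizer_singleton_iff.2 rfl
  rw [Subgroup.mem_centralizer_singleton_iff] at h2 ⊢
  calc m * m'⁻¹ * g' * (m * m'⁻¹)⁻¹ * (m * y * m⁻¹)
      = m * m'⁻¹ * (g' * (m' * y * m'⁻¹)) * (m * m'⁻¹)⁻¹ := by group
    _ = m * m'⁻¹ * (m' * y * m'⁻¹ * g') * (m * m'⁻¹)⁻¹ := by rw [h2]
    _ = m * y * m⁻¹ * (m * m'⁻¹ * g' * (m * m'⁻¹)⁻¹) := by group

/-- Centralisers of different orbits have coprime orders. -/
theorem coprime_orbits (d : Data U a b h e q) {g g' : G} (hg : IsRealFree Ω g)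
    (hg' : IsRealFree Ω g') (hne : g' ∉ orbitSet g) :
    Nat.Coprime (Nat.card (Subgroup.centralizer ({g} : Set G)))
      (Nat.card (Subgroup.centralizer ({g'} : Set G))) := by
  refine Nat.coprime_of_dvd fun p hp hp1 hp2 => hne ?_
  haveI := Fact.mk hp
  have key : ∀ g : G, IsRealFree Ω g → p ∣ Nat.card (Subgroup.centralizer ({g} : Set G)) →
      ∃ P : Sylow p G, (P : Subgroup G) ≤ Subgroup.centralizer ({g} : Set G) ∧
        ∃ y ∈ (P : Subgroup G), y ≠ 1 := by
    intro g hg hpg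
    obtain ⟨⟨y, hy⟩, hyo⟩ := exists_prime_orderOf_dvd_card' p hpg
    rw [Subgroup.orderOf_mk] at hyo
    have hy1 : y ≠ 1 := fun e' => hp.one_lt.ne (by rw [← hyo, e', orderOf_one])
    obtain ⟨P, hP⟩ := (IsPGroup.of_card (p := p) (n := 1)
      (by rw [Nat.card_zpowers, hyo, pow_one]) : IsPGroup p (Subgroup.zpowers y)).exists_le_sylow
    have hyP : y ∈ (P : Subgroup G) := hP (Subgroup.mem_zpowers y)
    haveI : Nontrivial (P : Subgroup G) := ⟨⟨y, hyP⟩, 1, fun e' => hy1 (congrArg Subtype.val e')⟩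
    haveI := P.2.center_nontrivial
    obtain ⟨⟨⟨z, hzP⟩, hzc⟩, hz1⟩ := exists_ne (1 : Subgroup.center (P : Subgroup G))
    have hcom : ∀ w ∈ (P : Subgroup G), w * z = z * w := fun w hw =>
      congrArg Subtype.val (Subgroup.mem_center_iff.1 hzc ⟨w, hw⟩)
    have hzC : z ∈ Subgroup.centralizer ({g} : Set G) := by
      rw [← (d.centralizer_of_mem hg hy hy1).2, Subgroup.mem_centralizer_singleton_iff]
      exact (hcom y hyP).symm
    refine ⟨P, fun w hw => ?_, y, hyP, hy1⟩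
    rw [← (d.centralizer_of_mem hg hzC fun e' => hz1 (Subtype.ext (Subtype.ext e'))).2,
      Subgroup.mem_centralizer_singleton_iff]
    exact hcom w hw
  obtain ⟨P, hP, -⟩ := key g hg hp1
  obtain ⟨P', hP', y, hy, hy1⟩ := key g' hg' hp2
  obtain ⟨m, hm⟩ := MulAction.exists_smul_eq G P' P
  refine d.mem_orbitSet_of_meet hg hg' (y := y) (mem_orbitSet.2 ⟨hy1, m, hP ?_⟩)
    (mem_orbitSet.2 ⟨hy1, 1, by rw [inv_one, one_mul, mul_one]; exact hP' hy⟩)
  rw [← hm]
  exact ⟨y, hy, rfl⟩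

open Classical in
/-- A kernel of order `q²` forces an odd exponent. -/
theorem exists_odd_exponent (d : Data U a b h e q) (hh : h = q ^ 2) :
    ∃ n : ℕ, Odd n ∧ q = 2 ^ n := by
  obtain ⟨n, hn⟩ := d.q_pow
  have hq4 : 4 ≤ q := by have := d.q_eq; have := d.three_le; omega
  refine ⟨n, ?_, hn⟩
  let R := Finset.univ.filter fun g : G => IsRealFree Ω g
  have hmemR : ∀ g, g ∈ R ↔ IsRealFree Ω g := fun g => by simp [R]
  have hGpos : 0 < Nat.card G := Nat.card_pos
  have hsum : 2 * ∑ g ∈ R, Nat.card (Subgroup.centralizer ({g} : Set G)) = Nat.card G * q :=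
    d.sum_centralizer
  have hcardR : 2 * R.card + h * (h - 1) ≤ Nat.card G := d.two_mul_card_realFree
  have hRlt : 2 * R.card < Nat.card G := by
    have h1 : 0 < h * (h - 1) := by have := d.setup.two_le_h; exact Nat.mul_pos (by omega) (by omega)
    omega
  -- facts for one orbit
  have horb : ∀ g ∈ R, ∃ w : ℕ, (w = 2 ∨ w = 4) ∧
      5 ≤ Nat.card (Subgroup.centralizer ({g} : Set G)) ∧
      Nat.card (Subgroup.centralizer ({g} : Set G)) ∣ q ^ 2 + 1 ∧
      orbitSet g ⊆ R ∧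
      (orbitSet g).card * (Nat.card (Subgroup.centralizer ({g} : Set G)) * w) =
        Nat.card G * (Nat.card (Subgroup.centralizer ({g} : Set G)) - 1) ∧
      ∑ y ∈ orbitSet g, Nat.card (Subgroup.centralizer ({y} : Set G)) =
        (orbitSet g).card * Nat.card (Subgroup.centralizer ({g} : Set G)) := by
    intro g hg
    rw [hmemR] at hg
    obtain ⟨W, hN, hWe, -, -, -, hW4, -⟩ := d.normalizer_facts hg
    have hWpos : 0 < Nat.card W := Nat.card_pos
    have hdvd : Nat.card (Subgroup.centralizer ({g} : Set G)) ∣ q ^ 2 + 1 := hh ▸ d.card_centralizer_dvd hg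
    have h3 := d.two_le_centralizer hg
    obtain ⟨j, hj⟩ := d.odd_centralizer hg
    refine ⟨Nat.card W, ?_, ?_, hdvd, fun y hy => (hmemR y).2 (d.orbitSet_facts hg hy).1, ?_, ?_⟩
    · have := hW4 hh
      obtain ⟨i, hi⟩ := hWe
      omega
    · by_contra hlt
      have h4 : Nat.card (Subgroup.centralizer ({g} : Set G)) = 3 := by omega
      rw [h4] at hdvd
      have h5 : q % 3 = 0 ∨ q % 3 = 1 ∨ q % 3 = 2 := by omega
      obtain ⟨c, hc⟩ := hdvd
      have h6 : (q ^ 2 + 1) % 3 = 0 := by omega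
      rw [Nat.add_mod, Nat.pow_mod] at h6
      rcases h5 with h5 | h5 | h5 <;> rw [h5] at h6 <;> norm_num at h6
    · rw [← hN]; exact d.card_orbitSet hg
    · rw [← smul_eq_mul, ← Finset.sum_const]
      exact Finset.sum_congr rfl fun y hy => (d.orbitSet_facts hg hy).2
  have hself : ∀ g ∈ R, g ∈ orbitSet g := fun g hg => mem_orbitSet.2
    ⟨realFree_ne_one ((hmemR g).1 hg) a, 1, by
      rw [inv_one, one_mul, mul_one, Subgroup.mem_centralizer_singleton_iff]⟩
  have hdisj : ∀ g ∈ R, ∀ g' ∈ R, g' ∉ orbitSet g → Disjoint (orbitSet g) (orbitSet g') :=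
    fun g hg g' hg' hne => Finset.disjoint_left.2 fun y hy hy' =>
      hne (d.mem_orbitSet_of_meet ((hmemR g).1 hg) ((hmemR g').1 hg') hy hy')
  -- each orbit is large
  have hfifth : ∀ s a w : ℕ, w ≤ 4 → 5 ≤ a → s * (a * w) = Nat.card G * (a - 1) →
      Nat.card G ≤ 5 * s := by
    intro s a w hw ha hsa
    obtain ⟨a', rfl⟩ : ∃ a', a = a' + 1 := ⟨a - 1, by omega⟩
    simp only [Nat.add_sub_cancel] at hsa
    refine Nat.le_of_mul_le_mul_right (c := 4 * (a' + 1)) ?_ (by omega)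
    have h1 : s * ((a' + 1) * w) ≤ s * ((a' + 1) * 4) :=
      Nat.mul_le_mul_left _ (Nat.mul_le_mul_left _ hw)
    nlinarith
  obtain ⟨g1, hg1⟩ : R.Nonempty := by
    rw [Finset.nonempty_iff_ne_empty]
    intro h0
    rw [h0, Finset.sum_empty, mul_zero] at hsum
    rcases mul_eq_zero.1 hsum.symm with h1 | h1 <;> omega
  obtain ⟨w1, hw1, ha1, hd1, hsub1, hcard1, hsum1⟩ := horb g1 hg1
  set a1 := Nat.card (Subgroup.centralizer ({g1} : Set G))
  by_cases hR1 : R ⊆ orbitSet g1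
  · exfalso
    rw [Finset.Subset.antisymm hR1 hsub1, hsum1] at hsum
    have h2 : (a1 - 1) * 2 = q * w1 := by
      refine Nat.eq_of_mul_eq_mul_left hGpos ?_
      rw [← mul_assoc, ← hcard1, ← mul_assoc (Nat.card G) q, ← hsum]
      ring
    obtain ⟨c, hc⟩ := hd1
    obtain ⟨a', rfl'⟩ : ∃ a', a1 = a' + 1 := ⟨a1 - 1, by omega⟩
    rw [rfl'] at h2 hc ha1
    simp only [Nat.add_sub_cancel] at h2
    rcases hw1 with rfl | rfl
    · obtain rfl : a' = q := by omega
      have h4 : a' + 1 ∣ 2 := by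
        refine (Nat.dvd_add_right (Dvd.intro (a' - 1) rfl : a' + 1 ∣ (a' + 1) * (a' - 1))).1 ?_
        refine ⟨c, ?_⟩
        rw [← hc]
        obtain ⟨a'', rfl⟩ : ∃ a'', a' = a'' + 1 := ⟨a' - 1, by omega⟩
        simp only [Nat.add_sub_cancel]
        ring
      have := Nat.le_of_dvd two_pos h4
      omega
    · obtain rfl : a' = 2 * q := by omega
      have h4 : 2 * q + 1 ∣ 5 := by
        refine (Nat.dvd_add_right (Dvd.intro (2 * q - 1) rfl : 2 * q + 1 ∣ (2 * q + 1) * (2 * q - 1))).1 ?_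
        refine ⟨4 * c, ?_⟩
        obtain ⟨q', rfl⟩ : ∃ q', q = q' + 1 := ⟨q - 1, by omega⟩
        rw [show 2 * (q' + 1) - 1 = 2 * q' + 1 by omega]
        nlinarith [hc]
      have := Nat.le_of_dvd (by norm_num) h4
      omega
  obtain ⟨g2, hg2, hne2⟩ := Finset.not_subset.1 hR1
  obtain ⟨w2, hw2, ha2, hd2, hsub2, hcard2, hsum2⟩ := horb g2 hg2
  set a2 := Nat.card (Subgroup.centralizer ({g2} : Set G))
  have hd12 := hdisj g1 hg1 g2 hg2 hne2
  have hcov : R = orbitSet g1 ∪ orbitSet g2 := by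
    refine Finset.Subset.antisymm (fun g3 hg3 => ?_) (Finset.union_subset hsub1 hsub2)
    by_contra hne3
    rw [Finset.mem_union, not_or] at hne3
    obtain ⟨w3, hw3, ha3, -, hsub3, hcard3, -⟩ := horb g3 hg3
    have h1 : (orbitSet g1 ∪ orbitSet g2 ∪ orbitSet g3).card ≤ R.card :=
      Finset.card_le_card (Finset.union_subset (Finset.union_subset hsub1 hsub2) hsub3)
    rw [Finset.card_union_of_disjoint (Finset.disjoint_union_left.2
      ⟨hdisj g1 hg1 g3 hg3 hne3.1, hdisj g2 hg2 g3 hg3 hne3.2⟩),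
      Finset.card_union_of_disjoint hd12] at h1
    have e1 := hfifth _ _ _ (by omega) ha1 hcard1
    have e2 := hfifth _ _ _ (by omega) ha2 hcard2
    have e3 := hfifth _ _ _ (by omega) ha3 hcard3
    omega
  rw [hcov, Finset.sum_union hd12, hsum1, hsum2] at hsum
  have hRc : R.card = (orbitSet g1).card + (orbitSet g2).card := by
    rw [hcov, Finset.card_union_of_disjoint hd12]
  have htwo : ∀ s a w : ℕ, w = 2 → 5 ≤ a → s * (a * w) = Nat.card G * (a - 1) →
      2 * Nat.card G ≤ 5 * s := by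
    rintro s a _ rfl ha hsa
    obtain ⟨a', rfl⟩ : ∃ a', a = a' + 1 := ⟨a - 1, by omega⟩
    simp only [Nat.add_sub_cancel] at hsa
    refine Nat.le_of_mul_le_mul_right (c := 2 * (a' + 1)) ?_ (by omega)
    nlinarith
  have e1 := hfifth _ _ _ (by omega : w1 ≤ 4) ha1 hcard1
  have e2 := hfifth _ _ _ (by omega : w2 ≤ 4) ha2 hcard2
  obtain rfl : w1 = 4 := hw1.resolve_left fun h1 => by
    have := htwo _ _ _ h1 ha1 hcard1
    omega
  obtain rfl : w2 = 4 := hw2.resolve_left fun h1 => by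
    have := htwo _ _ _ h1 ha2 hcard2
    omega
  have hab' : a1 + a2 = 2 * q + 2 := by
    have h3 : Nat.card G * ((a1 - 1) + (a2 - 1)) = Nat.card G * (2 * q) := by
      rw [mul_add, ← hcard1, ← hcard2]
      linarith
    have := Nat.eq_of_mul_eq_mul_left hGpos h3
    omega
  obtain ⟨k, hk⟩ := (d.coprime_orbits ((hmemR g1).1 hg1) ((hmemR g2).1 hg2) hne2).mul_dvd_of_dvd_of_dvd
    hd1 hd2
  rw [hn] at hab' hk
  exact odd_of_sum_prod (x := a1) (y := a2) (k := k) (by omega) (by omega) hab' hk.symm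

end Data

end Cfsg.Agent.Lib.Zassenhaus.TwoKernel
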