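import Mathlib
import Cfsg.Agent.Lib.Zassenhaus.TwoKernel.Orbits
import Cfsg.Agent.Lib.Zassenhaus.TwoKernel.ColumnBound
import Cfsg.Agent.Lib.SuzukiTwo.Square

/-!
Simple Zassenhaus groups with a non-abelian 2-group as kernel: the kernel has order `q²`, where `q`
is an odd power of two.
-/

set_option autoImplicit false

namespace Cfsg.Agent.Lib.Zassenhaus.TwoKernel

open MulAction Cfsg Cfsg.Agent.Lib

open Classical in
/-- The square of a class sum in an irreducible representation. -/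
theorem class_sum_sq {G : Type*} [Group G] [Fintype G] (χ : IrrCharacter G) (J : Finset G)
    (hJ : ∀ g : G, ∀ s ∈ J, g * s * g⁻¹ ∈ J) :
    (χ : G → ℂ) 1 * ∑ p ∈ J ×ˢ J, (χ : G → ℂ) (p.1 * p.2) = (∑ s ∈ J, (χ : G → ℂ) s) ^ 2 := by
  obtain ⟨n, ρ, hρ, hχ⟩ := χ.2
  let T : Module.End ℂ (Fin n → ℂ) := ∑ s ∈ J, ρ s
  have hcomm : ∀ g : G, T ∘ₗ ρ g = ρ g ∘ₗ T := by
    intro g
    simp only [T, ← Module.End.mul_eq_comp, Finset.sum_mul, Finset.mul_sum, ← map_mul]
    refine Finset.sum_bij' (fun s _ => g⁻¹ * s * g) (fun s _ => g * s * g⁻¹)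
      (fun s hs => by simpa using hJ g⁻¹ s hs) (fun s hs => hJ g s hs) (fun s _ => by group)
      (fun s _ => by group) fun s _ => by congr 1; group
  obtain ⟨c, hc⟩ := Chars.exists_scalar_of_commute ρ T hcomm
  have htr : ∀ g : G, (χ : G → ℂ) g = LinearMap.trace ℂ (Fin n → ℂ) (ρ g) := fun g => by
    rw [← hχ]; rfl
  have h1 : ∑ s ∈ J, (χ : G → ℂ) s = c * n := by
    simp only [htr]
    rw [← map_sum]
    show LinearMap.trace ℂ _ T = _
    rw [hc, map_smul, LinearMap.trace_one, Module.finrank_fin_fun, smul_eq_mul]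
  have h2 : ∑ p ∈ J ×ˢ J, (χ : G → ℂ) (p.1 * p.2) = c * c * n := by
    simp only [htr]
    rw [← map_sum, Finset.sum_product]
    simp only [map_mul, ← Finset.mul_sum, ← Finset.sum_mul]
    show LinearMap.trace ℂ _ (T * T) = _
    rw [hc, smul_mul_smul_comm, one_mul, map_smul, LinearMap.trace_one, Module.finrank_fin_fun,
      smul_eq_mul]
  rw [h1, h2, htr 1, map_one, LinearMap.trace_one, Module.finrank_fin_fun]
  ring

variable {G Ω : Type*} [Group G] [Fintype G] [MulAction G Ω] [Fintype Ω]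
  {U : Subgroup G} {a b : Ω} {h e q : ℕ}

namespace Data

open Classical in
theorem sum_pairs (d : Data U a b h e q) (χ : IrrCharacter G) {D v : ℂ} (hD : (χ : G → ℂ) 1 = D)
    (hv : ∀ t : G, orderOf t = 2 → (χ : G → ℂ) t = v)
    (h0 : ∀ g : G, IsTwoFix Ω g ∨ IsRealFree Ω g → (χ : G → ℂ) g = 0) :
    ∑ p ∈ invols G ×ˢ invols G, (χ : G → ℂ) (p.1 * p.2) =
      ((invols G).card : ℂ) * (D + ((e : ℂ) - 1) * v) := by
  rw [Finset.sum_product, ← nsmul_eq_mul, ← Finset.sum_const]
  refine Finset.sum_congr rfl fun s hs => ?_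
  rw [← Finset.sum_filter_add_sum_filter_not (invols G) (fun t => ∃ c : Ω, s • c = c ∧ t • c = c),
    Finset.sum_eq_zero (s := (invols G).filter fun t => ¬ ∃ c : Ω, s • c = c ∧ t • c = c) (fun t ht => ?_),
    add_zero]
  · have hsmem : s ∈ (invols G).filter fun t => ∃ c : Ω, s • c = c ∧ t • c = c := by
      obtain ⟨c, hc, -⟩ := d.existsUnique_fix (mem_invols.1 hs)
      exact Finset.mem_filter.2 ⟨hs, c, hc, hc⟩
    rw [← Finset.add_sum_erase _ _ hsmem]
    have hss : s * s = 1 := by rw [← pow_two, ← mem_invols.1 hs, pow_orderOf_eq_one]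
    congr 1
    · rw [hss, hD]
    · rw [Finset.sum_congr rfl (g := fun _ => v) fun t ht => ?_, Finset.sum_const,
        Finset.card_erase_of_mem hsmem, d.card_same_fix hs, nsmul_eq_mul,
        Nat.cast_sub (by have := d.three_le; omega), Nat.cast_one]
      obtain ⟨hts, ht'⟩ := Finset.mem_erase.1 ht
      obtain ⟨ht2, c, hc, hc'⟩ := Finset.mem_filter.1 ht'
      refine hv _ (orderOf_eq_prime ?_ fun e' => hts ?_)
      · have htt : t * t = 1 := by rw [← pow_two, ← mem_invols.1 ht2, pow_orderOf_eq_one]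
        have hcom := SimpleOdd.commute_of_same_fix d.setup.zass d.inv
          (a := c) (b := if c = a then b else a) (by
            by_cases h1 : c = a
            · rw [if_pos h1, h1]; exact d.setup.ne
            · rw [if_neg h1]; exact h1)
          (by
            rw [SimpleOdd.card_pair_eq (G := G) d.setup.zass.2.1 d.setup.ne (by
              by_cases h1 : c = a
              · rw [if_pos h1, h1]; exact d.setup.ne
              · rw [if_neg h1]; exact h1)]
            exact d.hodd)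
          (mem_invols.1 hs) (mem_invols.1 ht2) hc hc'
        calc (s * t) ^ 2 = s * (t * s) * t := by rw [pow_two]; group
          _ = s * s * (t * t) := by rw [← hcom]; group
          _ = 1 := by rw [hss, htt, one_mul]
      · rw [eq_inv_of_mul_eq_one_right (show s * t = 1 from e'), inv_eq_of_mul_eq_one_right hss]
  · obtain ⟨ht2, hne⟩ := Finset.mem_filter.1 ht
    exact h0 _ (d.pair_product (mem_invols.1 hs) (mem_invols.1 ht2) hne)

open Classical in
theorem false_of_cube [IsSimpleGroup G] (d : Data U a b h e q) (hh : h = q ^ 3) : False := by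
  haveI : Fintype ↥(Subgroup.normalizer (U : Set G)) := Fintype.ofFinite _
  obtain ⟨S, v, hS, hperm, hdeg, hinvv, htwo, hfree⟩ := d.exists_exceptional hh
  obtain ⟨χ, hχ⟩ : S.Nonempty := Finset.card_pos.1 (by omega)
  have hreal := fun (g : G) (hg : IsRealFree Ω g) => d.vanish_realFree hh S v hS hperm hdeg hfree hg
  have h1 := class_sum_sq χ (invols G) fun g s hs =>
    mem_invols.2 ((MulEquiv.orderOf_eq (MulAut.conj g) s).trans (mem_invols.1 hs))
  rw [d.sum_pairs χ (hdeg χ hχ) (hinvv χ hχ) (fun g hg => hg.elim (htwo χ hχ g)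
      (fun hr => (hreal g hr).1 χ hχ)), hdeg χ hχ,
    Finset.sum_congr rfl fun s hs => hinvv χ hχ s (mem_invols.1 hs), Finset.sum_const,
    nsmul_eq_mul, d.card_invols] at h1
  have hq := d.q_eq
  have he3 := d.three_le
  have hI : (0 : ℤ) < (e : ℤ) * ((h : ℤ) + 1) := mul_pos (by omega) (by omega)
  have h2 : ((e : ℤ) * ((q : ℤ) - v)) * (((e : ℤ) * ((h : ℤ) + 1)) *
      ((e : ℤ) * ((q : ℤ) - v) + ((e : ℤ) - 1) * v)) = ((e : ℤ) * ((h : ℤ) + 1) * v) ^ 2 := by
    apply Int.cast_injective (α := ℂ)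
    push_cast at h1 ⊢
    linear_combination h1
  have h3 : ((q : ℤ) - v) * ((e : ℤ) * ((q : ℤ) - v) + ((e : ℤ) - 1) * v) = ((h : ℤ) + 1) * v ^ 2 := by
    refine mul_left_cancel₀ (show (e : ℤ) * ((e : ℤ) * ((h : ℤ) + 1)) ≠ 0 from
      mul_ne_zero (by omega) hI.ne') ?_
    linear_combination h2
  have hh' : (h : ℤ) = (q : ℤ) ^ 3 := by exact_mod_cast hh
  have hq' : (q : ℤ) = e + 1 := by exact_mod_cast hq
  have h4 : (v + 1) * ((q : ℤ) * v - e) = 0 := by
    refine ((mul_eq_zero (a := (q : ℤ) ^ 2) (b := (v + 1) * ((q : ℤ) * v - e))).1 ?_).resolve_left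
      (pow_ne_zero 2 (show (q : ℤ) ≠ 0 by omega))
    rw [hh'] at h3
    rw [hq'] at h3 ⊢
    linear_combination -h3
  have hv : v = -1 := by
    rcases mul_eq_zero.1 h4 with h5 | h5
    · omega
    · exfalso
      have h6 : (q : ℤ) * (v - 1) = -1 := by rw [hq'] at h5 ⊢; linear_combination h5
      rcases Int.eq_one_or_neg_one_of_mul_eq_neg_one h6 with h7 | h7 <;> omega
  subst hv
  -- centralisers are small
  have hle : ∀ g : G, IsRealFree Ω g → Nat.card (Subgroup.centralizer ({g} : Set G)) ≤ q + 1 := by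
    intro g hg
    have hd := (hreal g hg).2
    rw [show (e : ℤ) * ((q : ℤ) - (-1)) = ((e * (q + 1) : ℕ) : ℤ) by push_cast; ring,
      Int.natCast_dvd_natCast] at hd
    refine Nat.le_of_dvd (by omega) ((Nat.Coprime.dvd_mul_left ?_).1 hd)
    refine Nat.coprime_of_dvd fun p hp hp1 hp2 => ?_
    have h5 : p ∣ h + 1 := hp1.trans (d.card_centralizer_dvd hg)
    have h6 : p ∣ 2 := by
      rw [hh, hq] at h5
      rw [show (e + 1) ^ 3 + 1 = e * (e ^ 2 + 3 * e + 3) + 2 by ring] at h5
      exact (Nat.dvd_add_right (hp2.mul_right _)).1 h5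
    have h7 : p ∣ 1 := by
      obtain ⟨j, hj⟩ := d.setup.odd
      have h8 : p ∣ 2 * j + 1 := hj ▸ hp2
      exact (Nat.dvd_add_right (h6.mul_right j)).1 h8
    exact hp.one_lt.ne' (Nat.dvd_one.1 h7)
  have hsum := d.sum_centralizer
  have hR := d.two_mul_card_realFree
  have hbound : ∑ g ∈ (Finset.univ.filter fun g : G => IsRealFree Ω g),
      Nat.card (Subgroup.centralizer ({g} : Set G)) ≤
      (Finset.univ.filter fun g : G => IsRealFree Ω g).card * (q + 1) := by
    rw [← smul_eq_mul, ← Finset.sum_const]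
    exact Finset.sum_le_sum fun g hg => hle g (Finset.mem_filter.1 hg).2
  have hG := d.card_group
  have hh3 : 3 ≤ h := d.setup.two_le_h
  obtain ⟨h', rfl⟩ : ∃ h', h = h' + 1 := ⟨h - 1, by omega⟩
  simp only [Nat.add_sub_cancel] at hR
  subst hq
  have hlt : e + 1 < h' + 1 := by
    rw [hh]
    calc e + 1 = (e + 1) ^ 1 := (pow_one _).symm
      _ < (e + 1) ^ 3 := Nat.pow_lt_pow_right (by omega) (by norm_num)
  have h9 : (h' + 1) * h' * (e + 1 + 1) ≤ (h' + 1 + 1) * ((h' + 1) * e) := by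
    nlinarith
  nlinarith

/-- The main theorem. -/
theorem structure_theorem [IsSimpleGroup G] (d : Data U a b h e q) :
    ∃ n : ℕ, Odd n ∧ 1 < n ∧ q = 2 ^ n ∧ h = q ^ 2 := by
  have hh : h = q ^ 2 := d.cardU.resolve_right d.false_of_cube
  obtain ⟨n, hn, hq⟩ := d.exists_odd_exponent hh
  refine ⟨n, hn, ?_, hq, hh⟩
  by_contra hle
  obtain ⟨j, rfl⟩ := hn
  obtain rfl : j = 0 := by omega
  have h1 := d.q_eq
  have h2 := d.three_le
  norm_num at hq
  omega

end Data

end Cfsg.Agent.Lib.Zassenhaus.TwoKernel
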