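import Mathlib
import Cfsg.Agent.Lib.Zassenhaus.TwoKernel.Main
import Cfsg.Prelude.Def_Exceptional

/-!
The structure theorem for simple Zassenhaus groups with a non-abelian 2-group as kernel.
-/

set_option autoImplicit false

universe u v

namespace Cfsg.Agent.Lib.Zassenhaus.TwoKernel

open MulAction Cfsg Cfsg.Agent.Lib

/-- The structure, in the hypotheses of the statements. -/
theorem exists_structure {G : Type u} {Ω : Type v} [Group G] [Finite G] [MulAction G Ω] [Finite Ω]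
    (hZ : Cfsg.IsZassenhausGroup G Ω) [IsSimpleGroup G] {a b : Ω} (hab : a ≠ b) (U : Subgroup G)
    (hUle : U ≤ stabilizer G a) (hUn : ∀ g ∈ stabilizer G a, ∀ u ∈ U, g * u * g⁻¹ ∈ U)
    (hreg : ∀ c d : Ω, c ≠ a → d ≠ a → ∃! u : U, (u : G) • c = d)
    (hU2 : IsPGroup 2 U) (hUna : ∃ u ∈ U, ∃ v ∈ U, u * v ≠ v * u) :
    ∃ n : ℕ, Odd n ∧ 1 < n ∧ Nat.card Ω = 2 ^ (2 * n) + 1 ∧
      IsCyclic ↥(stabilizer G a ⊓ stabilizer G b) ∧
      Nat.card ↥(stabilizer G a ⊓ stabilizer G b) = 2 ^ n - 1 ∧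
      Nat.card G = (2 ^ n) ^ 2 * ((2 ^ n) ^ 2 + 1) * (2 ^ n - 1) ∧
      ∃ (F : Type) (_ : Field F) (_ : Fintype F) (φ : F ≃+* F), Fintype.card F = 2 ^ n ∧
        Nonempty (U ≃* Cfsg.suzukiTypeA F (φ : F →+* F)) := by
  classical
  letI := Fintype.ofFinite G
  letI := Fintype.ofFinite Ω
  obtain ⟨h, e, q, d⟩ := exists_data hZ hab hUle hUn hreg hU2 hUna
  obtain ⟨n, hn, hn1, hq, hh⟩ := d.structure_theorem
  have he : e = 2 ^ n - 1 := by rw [← hq, d.q_eq, Nat.add_sub_cancel]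
  refine ⟨n, hn, hn1, ?_, d.cyclic, d.setup.pair.trans he, ?_, ?_⟩
  · rw [Nat.card_eq_fintype_card, d.setup.card, hh, hq, ← pow_mul, mul_comm n 2]
  · rw [d.card_group, hh, hq, he]
    ring
  · obtain ⟨F, iF, iFF, φ, hF, -, -, hiso⟩ := SuzukiTwo.exists_typeA d.suzuki
      (by rw [d.setup.cardH_eq, d.cardZ, hh])
    exact ⟨F, iF, iFF, φ, by rw [hF, d.cardZ, hq], hiso⟩

/-- The order-level conclusion. -/
theorem isSuzuki {G : Type u} {Ω : Type v} [Group G] [Finite G] [MulAction G Ω] [Finite Ω]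
    (hZ : Cfsg.IsZassenhausGroup G Ω) [IsSimpleGroup G] {a b : Ω} (hab : a ≠ b) (U : Subgroup G)
    (hUle : U ≤ stabilizer G a) (hUn : ∀ g ∈ stabilizer G a, ∀ u ∈ U, g * u * g⁻¹ ∈ U)
    (hreg : ∀ c d : Ω, c ≠ a → d ≠ a → ∃! u : U, (u : G) • c = d)
    (hU2 : IsPGroup 2 U) (hUna : ∃ u ∈ U, ∃ v ∈ U, u * v ≠ v * u) :
    Cfsg.IsSuzuki G := by
  obtain ⟨n, ⟨m, rfl⟩, hn1, -, -, -, hG, -⟩ := exists_structure hZ hab U hUle hUn hreg hU2 hUna
  exact ⟨inferInstance, m, by omega, hG⟩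

end Cfsg.Agent.Lib.Zassenhaus.TwoKernel
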